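import Groth.Agent.LefFlatLib.Alg
import Groth.Agent.ChernOpLib.Dual
import Groth.Agent.LMLib.End
import Groth.Agent.PnDualLib.Embed
import Groth.Agent.CIGenLib.SmoothPts
import Groth.Agent.FormalCohLib.ProjAmple
import Groth.Agent.VBResLib.GGen
import Groth.Agent.MiscFlat6.TensorGG
import Groth.Agent.DepthLib.RegAB
import Groth.Agent.S1688
import Groth.Agent.ProjKLib.Reg
import Groth.Agent.KoszOrthLib.PnVan
import Groth.Agent.RelLocDualLib.Twist

/-!
# Negative twists on projective space over a ring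
-/

set_option autoImplicit false
set_option linter.unusedSectionVars false
set_option linter.style.haveILetI false
set_option maxHeartbeats 1000000
set_option backward.isDefEq.respectTransparency false
set_option backward.isDefEq.respectTransparency.types false
universe u

open CategoryTheory CategoryTheory.Limits CategoryTheory.Abelian AlgebraicGeometry TopologicalSpace
open ProjFormLib (tF shortExact_tens)
open ChernOpLib (du duMap)
open CohCmpLib (stk homMod evMod evS)

noncomputable section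

namespace LefFlatLib

section Gen

variable {X : Scheme.{u}}

theorem subsingleton_X₁_zero {S : ShortComplex X.Modules} (hS : S.ShortExact)
    (h₂ : Subsingleton (Coh.HH X S.X₂ 0)) : Subsingleton (Coh.HH X S.X₁ 0) := by
  haveI : Subsingleton (QCohLib.HU (S.map (QCohLib.toAbF X)).X₂ 0 ⊤) := AmpleDevLib.hu_of_hh h₂
  haveI := (QCohLib.toAbF_shortExact hS).mono_f
  exact AmpleDevLib.hh_of_hu
    (Ext.postcomp_mk₀_injective_of_mono (QCohLib.zsh ⊤) (S.map (QCohLib.toAbF X)).f).subsingleton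

theorem subsingleton_X₂_of {S : ShortComplex X.Modules} (hS : S.ShortExact) {p : ℕ}
    (h₁ : Subsingleton (Coh.HH X S.X₁ p)) (h₃ : Subsingleton (Coh.HH X S.X₃ p)) :
    Subsingleton (Coh.HH X S.X₂ p) := by
  haveI : Subsingleton (QCohLib.HU (S.map (QCohLib.toAbF X)).X₁ p ⊤) := AmpleDevLib.hu_of_hh h₁
  haveI : Subsingleton (QCohLib.HU (S.map (QCohLib.toAbF X)).X₃ p ⊤) := AmpleDevLib.hu_of_hh h₃
  suffices ∀ x : QCohLib.HU (S.map (QCohLib.toAbF X)).X₂ p ⊤, x = 0 from
    AmpleDevLib.hh_of_hu (subsingleton_of_forall_eq 0 this)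
  intro x
  have hS' : (S.map (QCohLib.toAbF X)).ShortExact := QCohLib.toAbF_shortExact hS
  obtain ⟨y, rfl⟩ := Ext.covariant_sequence_exact₂ (QCohLib.zsh ⊤) hS' x
    (Subsingleton.elim _ _)
  rw [Subsingleton.elim y 0, Ext.zero_comp]

theorem subsingleton_X₃_of {S : ShortComplex X.Modules} (hS : S.ShortExact) {p : ℕ}
    (h₂ : Subsingleton (Coh.HH X S.X₂ p)) (h₁ : Subsingleton (Coh.HH X S.X₁ (p + 1))) :
    Subsingleton (Coh.HH X S.X₃ p) := by
  haveI : Subsingleton (QCohLib.HU (S.map (QCohLib.toAbF X)).X₂ p ⊤) := AmpleDevLib.hu_of_hh h₂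
  haveI : Subsingleton (QCohLib.HU (S.map (QCohLib.toAbF X)).X₁ (p + 1) ⊤) := AmpleDevLib.hu_of_hh h₁
  suffices ∀ x : QCohLib.HU (S.map (QCohLib.toAbF X)).X₃ p ⊤, x = 0 from
    AmpleDevLib.hh_of_hu (subsingleton_of_forall_eq 0 this)
  intro x
  have hS' : (S.map (QCohLib.toAbF X)).ShortExact := QCohLib.toAbF_shortExact hS
  obtain ⟨y, rfl⟩ := Ext.covariant_sequence_exact₃ (QCohLib.zsh ⊤) hS' x rfl
    (Subsingleton.elim _ _)
  rw [Subsingleton.elim y 0, Ext.zero_comp]

/-- The dual of a short exact sequence of bundles. -/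
theorem shortExact_du' {S : ShortComplex X.Modules} (hS : S.ShortExact)
    (hK : FlatMod.IsFinLocFree S.X₁) (hF : FlatMod.IsFinLocFree S.X₂) (hQ : FlatMod.IsFinLocFree S.X₃) :
    ∃ w : duMap S.g ≫ duMap S.f = 0, (ShortComplex.mk (duMap S.g) (duMap S.f) w).ShortExact := by
  have hsur : ∀ (y : X) (a : stk S.X₃ y), ∃ b : stk S.X₂ y, ((DerSch.stalkFunctor X y).map S.g).hom b = a :=
    fun y => DetRootLib.stalk_surjective hS y
  have hfg : ∀ (y : X) (a : stk S.X₁ y),
      ((DerSch.stalkFunctor X y).map S.g).hom (((DerSch.stalkFunctor X y).map S.f).hom a) = 0 := fun y a =>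
    congr($((S.map (DerSch.stalkFunctor X y)).zero) a)
  have key : ∀ (y : X) (n : stk (du S.X₃) y),
      ((DerSch.stalkFunctor X y).map (duMap S.f)).hom (((DerSch.stalkFunctor X y).map (duMap S.g)).hom n) = 0 := by
    intro y n
    refine (CohCmpLib.homEv_evMod hK y).1 ?_
    rw [ChernOpLib.evS_duMap, ChernOpLib.evS_duMap, map_zero]
    refine LinearMap.ext fun a => ?_
    rw [LinearMap.comp_apply, LinearMap.comp_apply, hfg, map_zero]
    rfl
  have w : duMap S.g ≫ duMap S.f = 0 := by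
    refine Scheme.Modules.hom_ext _ _ fun V => ?_
    ext n
    refine ProjFormLib.section_ext _ _ fun y hy => ?_
    show ProjFormLib.ger (du S.X₁) y hy ((duMap S.f).app V ((duMap S.g).app V n)) = ProjFormLib.ger (du S.X₁) y hy 0
    rw [CohCmpLib.ger_zero, ← ProjFormLib.ger_map, ← ProjFormLib.ger_map]
    exact key y _
  refine ⟨w, CurvLib.shortExact_of_stalks _ fun y => ?_⟩
  haveI : Module.Free (X.presheaf.stalk y) (stk S.X₃ y) := MiscFlat6.free_stalk_of_isFinLocFree hQ y
  haveI : Projective (S.map (DerSch.stalkFunctor X y)).X₃ :=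
    (IsProjective.iff_projective (R := X.presheaf.stalk y) ((DerSch.stalkFunctor X y).obj S.X₃)).1
      (Module.Projective.of_free (R := X.presheaf.stalk y) (P := stk S.X₃ y))
  let σ := (hS.map_of_exact (DerSch.stalkFunctor X y)).splittingOfProjective
  let ρ : stk S.X₂ y →ₗ[X.presheaf.stalk y] stk S.X₁ y := σ.r.hom
  have hr : ∀ a, ρ (((DerSch.stalkFunctor X y).map S.f).hom a) = a := fun a => congr($(σ.f_r) a)
  refine { exact := ?_, mono_f := ?_, epi_g := ?_ }
  · rw [ShortComplex.moduleCat_exact_iff]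
    intro n hn
    let L := evS (evMod S.X₂ (Coh.structureModule X)) y n
    have hL : ∀ a, L (((DerSch.stalkFunctor X y).map S.f).hom a) = 0 := fun a => by
      have h1 := ChernOpLib.evS_duMap S.f y n
      rw [show ((DerSch.stalkFunctor X y).map (duMap S.f)).hom n = 0 from hn, map_zero] at h1
      exact (congr($h1 a)).symm
    choose sec hsec using hsur y
    have hwd : ∀ b, L b = L (sec (((DerSch.stalkFunctor X y).map S.g).hom b)) := fun b => by
      obtain ⟨d, hd⟩ := DetRootLib.stalk_exact hS y (b - sec (((DerSch.stalkFunctor X y).map S.g).hom b))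
        (by
          show ((DerSch.stalkFunctor X y).map S.g).hom (b - _) = 0
          rw [map_sub, hsec, sub_self])
      rw [← sub_eq_zero, ← map_sub]
      exact (congrArg L hd).symm.trans (hL d)
    let L' : stk S.X₃ y →ₗ[X.presheaf.stalk y] stk (Coh.structureModule X) y :=
      { toFun := fun q => L (sec q)
        map_add' := fun q q' => by
          rw [← map_add, hwd (sec q + sec q'), map_add, hsec, hsec]
        map_smul' := fun c q => by
          rw [RingHom.id_apply, ← map_smul, hwd (c • sec q), map_smul, hsec] }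
    obtain ⟨n', hn'⟩ := (CohCmpLib.homEv_evMod hQ y).2 L'
    refine ⟨n', (CohCmpLib.homEv_evMod hF y).1 ?_⟩
    refine (ChernOpLib.evS_duMap S.g y n').trans (LinearMap.ext fun b => ?_)
    rw [LinearMap.comp_apply, hn']
    exact (hwd b).symm
  · refine (ModuleCat.mono_iff_injective _).2 fun a b hab => ?_
    refine (CohCmpLib.homEv_evMod hQ y).1 (LinearMap.ext fun q => ?_)
    obtain ⟨c, rfl⟩ := hsur y q
    have h1 := congrArg (fun z => evS (evMod S.X₂ (Coh.structureModule X)) y z c) hab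
    have e1 := congr($(ChernOpLib.evS_duMap S.g y a) c)
    have e2 := congr($(ChernOpLib.evS_duMap S.g y b) c)
    exact e1.symm.trans (h1.trans e2)
  · refine (ModuleCat.epi_iff_surjective _).2 fun m => ?_
    obtain ⟨n, hn⟩ := (CohCmpLib.homEv_evMod hF y).2 ((evS (evMod S.X₁ (Coh.structureModule X)) y m).comp ρ)
    refine ⟨n, (CohCmpLib.homEv_evMod hK y).1 ((ChernOpLib.evS_duMap S.f y n).trans (LinearMap.ext fun a => ?_))⟩
    rw [LinearMap.comp_apply, hn, LinearMap.comp_apply, hr]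

theorem isFinLocFree_du {V : X.Modules} (hV : FlatMod.IsFinLocFree V) : FlatMod.IsFinLocFree (du V) :=
  CohCmpLib.isFinLocFree_homMod hV (ProjKLib.vb_inv (CubeConsLib.isInvertible_one _))

/-- A bound on the projective dimension at closed points holds everywhere. -/
theorem pdlt_everywhere [IsLocallyNoetherian X] [CompactSpace X] (F : X.Modules) [Coh.IsQCoh F] (hF : CohB1.IsFT F)
    (n : ℕ) (h : ∀ y : X, IsClosed ({y} : Set X) →
      CommAlgDim.PDLT (X.presheaf.stalk y) (F.presheaf.stalk y) n) (x : X) :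
    CommAlgDim.PDLT (X.presheaf.stalk x) (F.presheaf.stalk x) n := by
  obtain ⟨y, hy, hyc⟩ := IsClosed.exists_closed_singleton (isClosed_closure (s := ({x} : Set X)))
    ⟨x, subset_closure rfl⟩
  exact (show x ⤳ y from specializes_iff_mem_closure.2 hy).mem_open
    (DepthLib.isOpen_pdlt_stalk F hF n) (h y hyc)

end Gen

section Pn

variable (N : ℕ) (A : Type u) [CommRing A] [IsNoetherianRing A]

local notation "ℙA" => CohB1.ProjSpace N A
local notation "OA" => Twist.twistProjSpace N A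

/-- `Hʲ(F(-m)) = 0` for `j < c` and `m ≫ 0`. -/
structure Van (c : ℕ) (F : (CohB1.ProjSpace N A).Modules) : Prop where
  out : ∃ m₀ : ℕ, ∀ m : ℕ, m₀ ≤ m → ∀ j : ℕ, j < c →
    Subsingleton (Coh.HH (CohB1.ProjSpace N A) ((tF (Twist.twistProjSpace N A (-(m : ℤ)))).obj F) j)

variable {N A}

theorem Van.of_iso {c : ℕ} {F G : (ℙA).Modules} (h : Van N A c G) (e : F ≅ G) : Van N A c F := by
  obtain ⟨m₀, h⟩ := h.out
  exact ⟨⟨m₀, fun m hm j hj => SerreVanLib.subsingleton_HH_of_iso ((tF _).mapIso e) j (h m hm j hj)⟩⟩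

theorem shortExact_tw {S : ShortComplex (ℙA).Modules} (hS : S.ShortExact) (t : ℤ) :
    (S.map (tF (OA t))).ShortExact :=
  shortExact_tens (ProjKLib.vb_inv (PicPnLib.twist_inv N A t)) hS

theorem Van.mid {c : ℕ} {S : ShortComplex (ℙA).Modules} (hS : S.ShortExact) (h₁ : Van N A c S.X₁)
    (h₃ : Van N A c S.X₃) : Van N A c S.X₂ := by
  obtain ⟨m₁, h₁⟩ := h₁.out
  obtain ⟨m₃, h₃⟩ := h₃.out
  exact ⟨⟨m₁ + m₃, fun m hm j hj => subsingleton_X₂_of (shortExact_tw hS _) (h₁ m (by omega) j hj)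
    (h₃ m (by omega) j hj)⟩⟩

theorem Van.right {c : ℕ} {S : ShortComplex (ℙA).Modules} (hS : S.ShortExact) (h₂ : Van N A c S.X₂)
    (h₁ : Van N A (c + 1) S.X₁) : Van N A c S.X₃ := by
  obtain ⟨m₁, h₁⟩ := h₁.out
  obtain ⟨m₂, h₂⟩ := h₂.out
  exact ⟨⟨m₁ + m₂, fun m hm j hj => subsingleton_X₃_of (shortExact_tw hS _) (h₂ m (by omega) j hj)
    (h₁ m (by omega) (j + 1) (by omega))⟩⟩

theorem Van.left {c : ℕ} {S : ShortComplex (ℙA).Modules} (hS : S.ShortExact) (h₂ : Van N A (c + 1) S.X₂)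
    (h₃ : Van N A c S.X₃) : Van N A (c + 1) S.X₁ := by
  obtain ⟨m₂, h₂⟩ := h₂.out
  obtain ⟨m₃, h₃⟩ := h₃.out
  refine ⟨⟨m₂ + m₃, fun m hm j hj => ?_⟩⟩
  rcases j with _ | j
  · exact subsingleton_X₁_zero (shortExact_tw hS _) (h₂ m (by omega) 0 (by omega))
  · exact PnCohLib.subsingleton_X₁_succ (shortExact_tw hS _) (h₂ m (by omega) (j + 1) hj)
      (h₃ m (by omega) j (by omega))

variable (N A)

theorem van_twist (t : ℤ) {c : ℕ} (hc : c ≤ N) : Van N A c (OA t) := by
  refine ⟨⟨t.toNat + 1, fun m hm j hj => ?_⟩⟩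
  obtain ⟨e⟩ := PicPnLib.twist_add N A (-(m : ℤ)) t
  exact SerreVanLib.subsingleton_HH_of_iso e j
    (PnCohLib.subsingleton_HH_twist _ j (fun h => by omega) (fun h => by omega))

theorem nonempty_du_twist (t : ℤ) : Nonempty (du (OA t) ≅ OA (-t)) := by
  obtain ⟨-, hiso⟩ := ChernOpLib.exists_du_inv (PicPnLib.twist_inv N A t)
  obtain ⟨e⟩ := PicPnLib.twist_add N A t (-t)
  obtain ⟨e₀⟩ := PicPnLib.twist_zero N A
  exact AmpleAffLib.nonempty_iso_of_inverse_unique (L := OA t) (@asIso _ _ _ _ _ hiso)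
    (e ≪≫ eqToIso (by rw [add_neg_cancel]) ≪≫ e₀)

/-- A bundle which, with its dual, has no cohomology below `N` in negative twists. -/
def Good (E : (CohB1.ProjSpace N A).Modules) : Prop :=
  FlatMod.IsFinLocFree E ∧ ∀ c : ℕ, c ≤ N → Van N A c E ∧ Van N A c (du E)

theorem good_twist (t : ℤ) : Good N A (OA t) := by
  obtain ⟨d⟩ := nonempty_du_twist N A t
  exact ⟨ProjKLib.vb_inv (PicPnLib.twist_inv N A t),
    fun c hc => ⟨van_twist N A t hc, (van_twist N A (-t) hc).of_iso d⟩⟩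

theorem Good.of_iso {E E' : (ℙA).Modules} (e : E ≅ E') (hE : FlatMod.IsFinLocFree E) (h : Good N A E') :
    Good N A E :=
  ⟨hE, fun c hc => ⟨(h.2 c hc).1.of_iso e,
    (h.2 c hc).2.of_iso (LMLib.homModLeftIso e (Coh.structureModule (ℙA)))⟩⟩

theorem Good.ext {S : ShortComplex (ℙA).Modules} (hS : S.ShortExact) (h₁ : Good N A S.X₁) (h₃ : Good N A S.X₃)
    (h₂ : FlatMod.IsFinLocFree S.X₂) : Good N A S.X₂ := by
  obtain ⟨w, hd⟩ := shortExact_du' hS h₁.1 h₂ h₃.1
  exact ⟨h₂, fun c hc => ⟨Van.mid hS (h₁.2 c hc).1 (h₃.2 c hc).1, Van.mid hd (h₃.2 c hc).2 (h₁.2 c hc).2⟩⟩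

theorem good_sum (t : ℤ) (b : ℕ) : Good N A ((tF (OA t)).obj (FlatMod.freeMod (ℙA) b)) := by
  haveI : (tF (OA t)).Additive := inferInstanceAs ((DCoh.tensorBi (X := ℙA)).obj (OA t)).Additive
  have hvb : ∀ b : ℕ, FlatMod.IsFinLocFree ((tF (OA t)).obj (FlatMod.freeMod (ℙA) b)) := fun b =>
    ProjKLib.vb_tens (ProjKLib.vb_inv (PicPnLib.twist_inv N A t)) (ProjKLib.vb_free _ _)
  induction b with
  | zero =>
    have hz : IsZero ((tF (OA t)).obj (FlatMod.freeMod (ℙA) 0)) :=
      (tF (OA t)).map_isZero ((IsZero.iff_id_eq_zero _).2 (Sigma.hom_ext _ _ fun j => j.elim0))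
    exact ⟨hvb 0, fun c hc => ⟨⟨⟨0, fun m _ j _ => PnCohLib.subsingleton_HH_of_zero ((tF _).map_isZero hz) j⟩⟩,
      ⟨⟨0, fun m _ j _ => PnCohLib.subsingleton_HH_of_zero
        ((tF _).map_isZero (ChernOpLib.duMap_zero_stalk (hvb 0) hz)) j⟩⟩⟩⟩
  | succ b ih =>
    let S₀ : ShortComplex (ℙA).Modules :=
      ShortComplex.mk (biprod.inl : Coh.structureModule (ℙA) ⟶ _ ⊞ FlatMod.freeMod (ℙA) b) biprod.snd (by simp)
    have hS₀ : S₀.ShortExact := (ShortComplex.Splitting.ofHasBinaryBiproduct _ _).shortExact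
    have hT : Good N A ((tF (OA t)).obj (Coh.structureModule (ℙA))) :=
      Good.of_iso N A (PicPnLib.unitRight (OA t))
        (ProjKLib.vb_tens (ProjKLib.vb_inv (PicPnLib.twist_inv N A t))
          (ProjKLib.vb_inv (CubeConsLib.isInvertible_one _))) (good_twist N A t)
    have hmid : Good N A (S₀.map (tF (OA t))).X₂ :=
      Good.ext N A (shortExact_tw hS₀ t) hT ih
        (ProjKLib.vb_tens (ProjKLib.vb_inv (PicPnLib.twist_inv N A t))
          (Groth.Agent.PerfLib.isFinLocFree_of_iso (CurvLib.freeModSucc _ b) (ProjKLib.vb_free _ _)))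
    exact Good.of_iso N A ((tF (OA t)).mapIso (CurvLib.freeModSucc _ b)) (hvb (b + 1)) hmid

theorem compactSpace_projSpace : CompactSpace (ℙA) := by
  obtain ⟨hp, -, -⟩ := Groth.Agent.KoszOrthLib.projSpace_hyps N A
  haveI := hp
  exact QuasiCompact.compactSpace_of_compactSpace (CohB1.ProjSpace.toSpec N A)

theorem isLocallyNoetherian_projSpace : IsLocallyNoetherian (ℙA) := by
  obtain ⟨hp, -, -⟩ := Groth.Agent.KoszOrthLib.projSpace_hyps N A
  haveI := hp
  exact LocallyOfFiniteType.isLocallyNoetherian (CohB1.ProjSpace.toSpec N A)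

theorem nonempty_pow_twist : ∀ q : ℕ, Nonempty (CohB1.tensorPow (OA 1) q ≅ OA (q : ℤ))
  | 0 => by
    obtain ⟨e⟩ := PicPnLib.twist_zero N A
    exact ⟨e.symm ≪≫ eqToIso (by simp)⟩
  | q + 1 => by
    obtain ⟨e⟩ := nonempty_pow_twist q
    obtain ⟨h⟩ := IntMultLib.nonempty_tensorPow_add (OA 1) q 1
    obtain ⟨g⟩ := PicPnLib.twist_add N A (q : ℤ) 1
    exact ⟨h ≪≫ HilbPolyLib.congrLeft e _ ≪≫
      HilbPolyLib.congrRight _ (HilbPolyLib.unitLeft (OA 1)) ≪≫ g⟩

/-- A coherent module is a quotient of a good bundle. -/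
theorem exists_good_epi (F : (ℙA).Modules) (hF : Coh.IsCoh F) :
    ∃ (E : (CohB1.ProjSpace N A).Modules) (g : E ⟶ F), Good N A E ∧ Epi g ∧ Coh.IsCoh (kernel g) := by
  haveI := compactSpace_projSpace N A
  haveI := isLocallyNoetherian_projSpace N A
  obtain ⟨q, hq⟩ := MiscFlat6.eventually_gg_of_isAmple (FormalCohLib.isAmple_twistProjSpace (n := N) (R := A)) F hF
  obtain ⟨e⟩ := nonempty_pow_twist N A q
  have hFq : Coh.IsCoh (CohB1.tensorMod F (CohB1.tensorPow (OA 1) q)) :=
    SerreVanLib.isCoh_tensor hF (AmpleThLib.tensorPow_isInvertible (PicPnLib.twist_inv N A 1) q)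
  obtain ⟨b, p, hp⟩ := VBResLib.exists_epi_free_of_gg hFq (hq q le_rfl)
  obtain ⟨e'⟩ := PicPnLib.twist_add N A (-(q : ℤ)) (q : ℤ)
  obtain ⟨e₀⟩ := PicPnLib.twist_zero N A
  let a : (tF (OA (-(q : ℤ)))).obj (CohB1.tensorMod F (CohB1.tensorPow (OA 1) q)) ≅ F :=
    HilbPolyLib.congrRight _ (HilbPolyLib.congrRight F e ≪≫ HilbPolyLib.swapIso F _) ≪≫
      (HilbPolyLib.assocIso _ _ _).symm ≪≫
      HilbPolyLib.congrLeft (e' ≪≫ eqToIso (by rw [neg_add_cancel]) ≪≫ e₀) F ≪≫ HilbPolyLib.unitLeft F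
  haveI := hp
  haveI : PreservesFiniteColimits (tF (OA (-(q : ℤ)))) := by
    haveI : (tF (OA (-(q : ℤ)))).IsEquivalence := RelLocDualLib.isEquivalence_tensorBi (PicPnLib.twist_inv N A _)
    infer_instance
  haveI : Epi ((tF (OA (-(q : ℤ)))).map p) := inferInstance
  have hg := good_sum N A (-(q : ℤ)) b
  exact ⟨_, (tF (OA (-(q : ℤ)))).map p ≫ a.hom, hg, inferInstance,
    QCohLib.isCoh_kernel _ (LocSuppLib.isCoh_of_isFinLocFree hg.1) hF.1⟩

theorem isFinLocFree_of_pdlt (F : (ℙA).Modules) (hF : Coh.IsCoh F)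
    (h : ∀ x : (ℙA : Scheme.{u}), CommAlgDim.PDLT ((ℙA).presheaf.stalk x) (F.presheaf.stalk x) 1) :
    FlatMod.IsFinLocFree F := by
  haveI := isLocallyNoetherian_projSpace N A
  refine Groth.Agent.S1688.isFinLocFree_of_isFP_of_flat (QCohLib.isFP_of_isCoh F hF) fun x => ?_
  haveI := CommAlgDim.pdlt_one_iff.1 (h x)
  exact inferInstanceAs (Module.Flat ((ℙA).presheaf.stalk x) (F.presheaf.stalk x))

theorem pdlt_kernel_iff {E F : (ℙA).Modules} (g : E ⟶ F) [Epi g] (hE : FlatMod.IsFinLocFree E) (x : (ℙA : Scheme.{u})) (r : ℕ) :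
    CommAlgDim.PDLT ((ℙA).presheaf.stalk x) (F.presheaf.stalk x) (r + 2) ↔
      CommAlgDim.PDLT ((ℙA).presheaf.stalk x) ((kernel g).presheaf.stalk x) (r + 1) := by
  let S : ShortComplex (ℙA).Modules := ShortComplex.mk (kernel.ι g) g (kernel.condition g)
  have hS : S.ShortExact := ShortComplex.ShortExact.mk (ShortComplex.exact_kernel g)
  haveI : Module.Free ((ℙA).presheaf.stalk x) (stk E x) := MiscFlat6.free_stalk_of_isFinLocFree hE x
  exact (hS.map_of_exact (DerSch.stalkFunctor (ℙA) x)).hasProjectiveDimensionLT_X₃_iff r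
    ((IsProjective.iff_projective (R := (ℙA).presheaf.stalk x) ((DerSch.stalkFunctor (ℙA) x).obj E)).1
      (Module.Projective.of_free (R := (ℙA).presheaf.stalk x) (P := stk E x)))

theorem van_bundle : ∀ (c : ℕ), c ≤ N → ∀ V : (CohB1.ProjSpace N A).Modules, FlatMod.IsFinLocFree V → Van N A c V
  | 0, _, V, _ => ⟨⟨0, fun m _ j hj => absurd hj (by omega)⟩⟩
  | c + 1, hc, V, hV => by
    haveI := isLocallyNoetherian_projSpace N A
    obtain ⟨E, g, hE, hg, hK⟩ := exists_good_epi N A (du V) (LocSuppLib.isCoh_of_isFinLocFree (isFinLocFree_du hV))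
    haveI := hg
    have hKvb : FlatMod.IsFinLocFree (kernel g) := isFinLocFree_of_pdlt N A _ hK fun x =>
      (pdlt_kernel_iff N A g hE.1 x 0).1 (by
        haveI : Module.Free ((ℙA).presheaf.stalk x) (stk (du V) x) :=
          MiscFlat6.free_stalk_of_isFinLocFree (isFinLocFree_du hV) x
        exact (CommAlgDim.pdlt_one_iff.2 (Module.Projective.of_free
          (R := (ℙA).presheaf.stalk x) (P := stk (du V) x))).mono (by omega))
    let S : ShortComplex (ℙA).Modules := ShortComplex.mk (kernel.ι g) g (kernel.condition g)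
    have hS : S.ShortExact := ShortComplex.ShortExact.mk (ShortComplex.exact_kernel g)
    obtain ⟨w, hd⟩ := shortExact_du' hS hKvb hE.1 (isFinLocFree_du hV)
    obtain ⟨b⟩ := LMLib.exists_bidual hV
    exact (Van.left hd (hE.2 (c + 1) hc).2 (van_bundle c (by omega) _ (isFinLocFree_du hKvb))).of_iso b.symm

/-- `Hʲ(F(-m)) = 0` for `j + r < N` when the projective dimension at closed points is at most `r`. -/
theorem van_of_pdlt : ∀ (r c : ℕ), c + r ≤ N → ∀ F : (CohB1.ProjSpace N A).Modules, Coh.IsCoh F →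
    (∀ x : (CohB1.ProjSpace N A : Scheme.{u}), IsClosed ({x} : Set (CohB1.ProjSpace N A : Scheme.{u})) →
      CommAlgDim.PDLT ((CohB1.ProjSpace N A).presheaf.stalk x) (F.presheaf.stalk x) (r + 1)) → Van N A c F := by
  intro r
  induction r with
  | zero =>
    intro c hc F hF h
    haveI := compactSpace_projSpace N A
    haveI := isLocallyNoetherian_projSpace N A
    haveI := hF.1
    exact van_bundle N A c hc F (isFinLocFree_of_pdlt N A F hF fun x => pdlt_everywhere F hF.2 1 h x)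
  | succ r ih =>
    intro c hc F hF h
    obtain ⟨E, g, hE, hg, hK⟩ := exists_good_epi N A F hF
    haveI := hg
    let S : ShortComplex (ℙA).Modules := ShortComplex.mk (kernel.ι g) g (kernel.condition g)
    have hS : S.ShortExact := ShortComplex.ShortExact.mk (ShortComplex.exact_kernel g)
    exact Van.right hS (hE.2 c (by omega)).1 (ih (c + 1) (by omega) (kernel g) hK
      fun x hx => (pdlt_kernel_iff N A g hE.1 x r).1 (h x hx))

end Pn

end LefFlatLib
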