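import Groth.Agent.StabLib.SectFree
import Groth.Agent.CommAlgDim.GlobalDim
import Groth.Agent.DepthTwoLib.FourTerm
import Groth.Agent.BELib.AB
import Groth.Agent.NewIntersectLib.Module

/-!
# Projective dimension of a flat module from its fibre
-/

set_option autoImplicit false
set_option linter.unusedSectionVars false
set_option linter.style.haveILetI false
universe u

open CategoryTheory IsLocalRing
open scoped TensorProduct

noncomputable section

namespace LefFlatLib

variable {R O S' : Type u} [CommRing R] [IsLocalRing R] [CommRing O] [IsLocalRing O] [IsNoetherianRing O]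
  [Algebra R O] [IsLocalHom (algebraMap R O)] [Module.Flat R O] [CommRing S'] [IsLocalRing S'] [Algebra O S']

/-- The reduction of a submodule with flat quotient embeds. -/
theorem injective_baseChange_subtype (hs : Function.Surjective (algebraMap O S'))
    (hker : RingHom.ker (algebraMap O S') = (maximalIdeal R).map (algebraMap R O))
    {M : Type u} [AddCommGroup M] [Module O M] [Module R M] [IsScalarTower R O M] [Module.Flat R M]
    {F : Type u} [AddCommGroup F] [Module O F] [Module R F] [IsScalarTower R O F]
    (g : F →ₗ[O] M) (hg : Function.Surjective g) :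
    Function.Injective ((LinearMap.ker g).subtype.baseChange S') := by
  have hconv : ∀ (P : Type u) [AddCommGroup P] [Module R P] [Module O P] [IsScalarTower R O P] (p : P),
      p ∈ RingHom.ker (algebraMap O S') • (⊤ : Submodule O P) ↔
        p ∈ maximalIdeal R • (⊤ : Submodule R P) := fun P _ _ _ _ p => by
    have e := Ideal.smul_restrictScalars (maximalIdeal R) (⊤ : Submodule O P)
    rw [Submodule.restrictScalars_top] at e
    rw [hker, ← e]
    exact Submodule.restrictScalars_mem _ _ _ |>.symm
  have hk : Function.Surjective (algebraMap R (ResidueField R)) := Ideal.Quotient.mk_surjective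
  have hkk : RingHom.ker (algebraMap R (ResidueField R)) = maximalIdeal R := ker_residue
  let ι := ((LinearMap.ker g).subtype).restrictScalars R
  have hinj : Function.Injective (ι.lTensor (ResidueField R)) :=
    LinearMap.lTensor_injective_of_exact_of_flat (g.restrictScalars R) hg ι
      (LinearMap.ker g).subtype_injective (LinearMap.exact_subtype_ker_map g) (ResidueField R)
  refine (injective_iff_map_eq_zero _).mpr fun w hw => ?_
  obtain ⟨m, rfl⟩ := TensorProduct.mk_surjective O (LinearMap.ker g) S' hs w
  rw [TensorProduct.mk_apply, LinearMap.baseChange_tmul, CohCmpLib.one_tmul_eq_zero_iff hs, hconv] at hw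
  rw [TensorProduct.mk_apply, CohCmpLib.one_tmul_eq_zero_iff hs, hconv, ← hkk,
    ← CohCmpLib.one_tmul_eq_zero_iff hk]
  refine hinj ?_
  rw [LinearMap.lTensor_tmul, map_zero, CohCmpLib.one_tmul_eq_zero_iff hk, hkk]
  exact hw

/-- **The projective dimension of a flat module is at most that of its fibre.** -/
theorem pdlt_of_quotient (hs : Function.Surjective (algebraMap O S'))
    (hker : RingHom.ker (algebraMap O S') = (maximalIdeal R).map (algebraMap R O)) :
    ∀ (r : ℕ) (M : Type u) [AddCommGroup M] [Module O M] [Module.Finite O M] [Module R M] [IsScalarTower R O M]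
      [Module.Flat R M], CommAlgDim.PDLT S' (S' ⊗[O] M) (r + 1) → CommAlgDim.PDLT O M (r + 1)
  | 0, M, _, _, _, _, _, _, h => by
    haveI : Module.Projective S' (S' ⊗[O] M) := CommAlgDim.pdlt_one_iff.1 h
    haveI := StabLib.free_of_quotient (R := R) (M := M) hs hker
    exact CommAlgDim.pdlt_one_iff.2 inferInstance
  | r + 1, M, _, _, _, _, _, _, h => by
    obtain ⟨b, g, hg⟩ := Module.Finite.exists_fin' O M
    haveI : Module.Flat R (Fin b → O) :=
      Module.Flat.trans R O (Fin b → O)
    haveI : Module.Flat R (LinearMap.ker g) :=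
      DepthTwoLib.flat_kernel ((LinearMap.ker g).subtype.restrictScalars R) (g.restrictScalars R)
        (LinearMap.ker g).subtype_injective (LinearMap.exact_subtype_ker_map g) hg
    rw [CommAlgDim.pdlt_ker_iff g hg]
    refine pdlt_of_quotient hs hker r (LinearMap.ker g) ?_
    have hgS : Function.Surjective (g.baseChange S') := LinearMap.baseChange_surjective _ hg
    have hinj := injective_baseChange_subtype (R := R) hs hker g hg
    have hex : Function.Exact ((LinearMap.ker g).subtype.baseChange S') (g.baseChange S') :=
      lTensor_exact S' (LinearMap.exact_subtype_ker_map g) hg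
    let e : S' ⊗[O] LinearMap.ker g ≃ₗ[S'] LinearMap.ker (g.baseChange S') :=
      (LinearEquiv.ofInjective _ hinj).trans (LinearEquiv.ofEq _ _ hex.linearMap_ker_eq.symm)
    exact CommAlgDim.PDLT.of_equiv e.symm ((CommAlgDim.pdlt_ker_iff _ hgS r).1 h)

/-- Over a regular local ring of dimension `≤ d`, depth `> n` gives projective dimension `< d - n`. -/
theorem pdlt_of_depth {A : Type u} [CommRing A] [IsRegularLocalRing A] {d : ℕ} (hd : ringKrullDim A ≤ d)
    (M : Type u) [AddCommGroup M] [Module A M] [Module.Finite A M] (n r : ℕ) (hr : d ≤ r + n + 1)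
    (hM : (n : ℕ∞) < LocCoh.depth A M) : CommAlgDim.PDLT A M (r + 1) := by
  rcases subsingleton_or_nontrivial M with hs | hs
  · haveI : Module.Projective A M := Module.Projective.of_free
    exact (CommAlgDim.pdlt_one_iff.2 inferInstance).mono (by omega)
  · obtain ⟨e, he⟩ := Groth.Agent.NewIntersectLib.exists_depth (A := A)
    have hed : e ≤ d := by
      have h := (Groth.Agent.NewIntersectLib.depth_le_dim (A := A)).trans hd
      rw [he] at h
      exact_mod_cast h
    by_contra hcon
    obtain ⟨q, hq⟩ : ∃ q, ¬ CommAlgDim.PDLT A M q ∧ CommAlgDim.PDLT A M (q + 1) ∧ r + 1 ≤ q := by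
      classical
      let p := Nat.find ⟨_, CommAlgDim.pdlt_of_isRegularLocalRing A M⟩
      have hp : CommAlgDim.PDLT A M p := Nat.find_spec ⟨_, CommAlgDim.pdlt_of_isRegularLocalRing A M⟩
      have hpr : r + 1 < p := by
        by_contra hle
        exact hcon (hp.mono (by omega))
      exact ⟨p - 1, Nat.find_min ⟨_, CommAlgDim.pdlt_of_isRegularLocalRing A M⟩ (by omega),
        by rwa [show p - 1 + 1 = p by omega], by omega⟩
    obtain ⟨hqe, hdep⟩ := Groth.Agent.BELib.depth_add_pd e A he M q hq.2.1 hq.1
    rw [hdep, Nat.cast_lt] at hM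
    omega

/-- Over a regular local ring, depth beyond the dimension forces zero. -/
theorem subsingleton_of_depth {A : Type u} [CommRing A] [IsRegularLocalRing A] {d : ℕ} (hd : ringKrullDim A ≤ d)
    (M : Type u) [AddCommGroup M] [Module A M] [Module.Finite A M] (n : ℕ) (hdn : d ≤ n)
    (hM : (n : ℕ∞) < LocCoh.depth A M) : Subsingleton M := by
  classical
  rcases subsingleton_or_nontrivial M with hs | hs
  · exact hs
  obtain ⟨e, he⟩ := Groth.Agent.NewIntersectLib.exists_depth (A := A)
  have hed : e ≤ d := by
    have h := (Groth.Agent.NewIntersectLib.depth_le_dim (A := A)).trans hd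
    rw [he] at h
    exact_mod_cast h
  let hex : ∃ p, CommAlgDim.PDLT A M p := ⟨_, CommAlgDim.pdlt_of_isRegularLocalRing A M⟩
  have hp : CommAlgDim.PDLT A M (Nat.find hex) := Nat.find_spec hex
  have hp0 : Nat.find hex ≠ 0 := fun h => by
    rw [h] at hp
    exact not_subsingleton M ((ModuleCat.isZero_iff_subsingleton (M := ModuleCat.of A M)).1
      ((CategoryTheory.hasProjectiveDimensionLT_zero_iff_isZero (X := ModuleCat.of A M)).1 hp))
  obtain ⟨-, hdep⟩ := Groth.Agent.BELib.depth_add_pd e A he M (Nat.find hex - 1)
    (by rwa [show Nat.find hex - 1 + 1 = Nat.find hex by omega]) (Nat.find_min hex (by omega))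
  rw [hdep, Nat.cast_lt] at hM
  omega

/-- Nakayama for the fibre. -/
theorem subsingleton_of_quotient (hs : Function.Surjective (algebraMap O S')) (M : Type u) [AddCommGroup M]
    [Module O M] [Module.Finite O M] (h : Subsingleton (S' ⊗[O] M)) : Subsingleton M := by
  have h1 : Function.Surjective (0 : PUnit.{u + 1} →ₗ[O] M) :=
    CohCmpLib.surjective_of_quotient hs _ fun w => ⟨0, Subsingleton.elim _ _⟩
  exact h1.subsingleton

end LefFlatLib
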