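import Groth.Agent.LefFlatLib.Field
import Groth.Agent.CIDivLib.Coh
import Groth.Agent.CIDivLib.Rows
import Groth.Agent.CIDivLib.Ambient
import Groth.Agent.PicLiftLib.CIPic
import Groth.Agent.PicPnLib.UFD
import Groth.Agent.FormalCohLib.ProjAmple
import Groth.Agent.ProjFormLib.Proj
import Groth.Agent.S3353

/-!
# Pic of a complete intersection of dimension at least three
-/

set_option autoImplicit false
set_option linter.unusedSectionVars false
set_option linter.style.haveILetI false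
set_option maxHeartbeats 1000000
set_option backward.isDefEq.respectTransparency false
set_option backward.isDefEq.respectTransparency.types false
universe u

open CategoryTheory CategoryTheory.Limits AlgebraicGeometry TopologicalSpace IsLocalRing
open CIDivLib (tw stepIdeal)

noncomputable section

namespace LefFlatLib

variable {k : Type u} [Field k] {n : ℕ}

/-- The local ring of a complete intersection at a closed point. -/
theorem ci_stalk {r : ℕ} {a : Fin r → ℕ} (G : ∀ j, LefPen.Form n k (a j)) (hr : r ≤ n)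
    (hdim : topologicalKrullDim (LefPen.ciIdeal G).subscheme ≤ ((n - r : ℕ) : WithBot ℕ∞))
    (z : (LefPen.ciIdeal G).subscheme) (hz : IsClosed ({z} : Set (LefPen.ciIdeal G).subscheme)) :
    SGA2.IsAbsCompleteIntersection ((LefPen.ciIdeal G).subscheme.presheaf.stalk z) ∧
      ringKrullDim ((LefPen.ciIdeal G).subscheme.presheaf.stalk z) = ((n - r : ℕ) : WithBot ℕ∞) ∧
      ∀ m : ℕ, m ≤ n - r → (m : ℕ∞) ≤ LocCoh.depth ((LefPen.ciIdeal G).subscheme.presheaf.stalk z)
        ((LefPen.ciIdeal G).subscheme.presheaf.stalk z) := by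
  let ι := (LefPen.ciIdeal G).subschemeι
  let x := ι z
  have hx : IsClosed ({x} : Set ↥(CohB1.ProjSpace n k)) := (CIDivLib.isClosed_subscheme_iff _ z).1 hz
  have hxs : x ∈ (LefPen.ciIdeal G).support := (LefPen.ciIdeal G).range_subschemeι.le ⟨z, rfl⟩
  haveI := CIDivLib.isRegular_stalk x
  have hreg := CIDivLib.isRegular_gen G hr hdim hxs hx
  set rs := List.ofFn fun j => CIDivLib.gen (G j) x with hrs
  have h := IntTensorLib.ker_stalkMap_eq_stalkIdeal ι z
  rw [(LefPen.ciIdeal G).ker_subschemeι, CIDivLib.stalkIdeal_ci] at h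
  let e : (LefPen.ciIdeal G).subscheme.presheaf.stalk z ≃+*
      (CohB1.ProjSpace n k).presheaf.stalk x ⧸ Ideal.ofList rs :=
    ((Ideal.quotEquivOfEq h.symm).trans
      (RingHom.quotientKerEquivOfSurjective (ι.stalkMap_surjective z))).symm
  haveI := e.isLocalRing
  haveI : IsNoetherianRing ((LefPen.ciIdeal G).subscheme.presheaf.stalk z) := isNoetherianRing_of_ringEquiv _ e.symm
  have hd : ringKrullDim ((LefPen.ciIdeal G).subscheme.presheaf.stalk z) = ((n - r : ℕ) : WithBot ℕ∞) := by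
    rw [ringKrullDim_eq_of_ringEquiv e]
    have h2 := ringKrullDim_add_length_eq_ringKrullDim_of_isRegular rs hreg
    obtain ⟨q, rfl⟩ : ∃ q, n = q + r := ⟨n - r, by omega⟩
    rw [CIDivLib.dim_stalk x hx, hrs, List.length_ofFn, Nat.cast_add] at h2
    rw [Nat.add_sub_cancel]
    exact (ENat.WithBot.add_natCast_cancel (c := r)).1 h2
  refine ⟨⟨_, _, inferInstance, rs, fun b hb => CommAlgDim.mem_maximalIdeal_of_isRegular hreg b hb, hreg, ⟨e⟩⟩, hd,
    fun m hm => CMFlatLib.le_depth_of_isCM (CatLib.isCM_of_ringEquiv e.symm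
      (PicLiftLib.isCM_quot _ _ rs rfl (CommAlgDim.isCM_of_isRegularLocalRing _) hreg)) ?_⟩
  rw [hd]
  exact_mod_cast hm

theorem nonempty_tensorPow_tw (I : (CohB1.ProjSpace n k).IdealSheafData) (a : ℤ) :
    ∀ m : ℕ, Nonempty (CohB1.tensorPow (tw I a) m ≅ tw I ((m : ℤ) * a))
  | 0 => by
    obtain ⟨e⟩ := CIDivLib.nonempty_tw_zero I
    exact ⟨e.symm ≪≫ eqToIso (by simp)⟩
  | m + 1 => by
    obtain ⟨e⟩ := nonempty_tensorPow_tw I a m
    obtain ⟨f⟩ := CIDivLib.nonempty_tw_add I ((m : ℤ) * a) a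
    exact ⟨HilbPolyLib.congrLeft e _ ≪≫ f ≪≫ eqToIso (by push_cast; ring_nf)⟩

theorem isAmple_tw (I : (CohB1.ProjSpace n k).IdealSheafData) {a : ℕ} (ha : 0 < a) :
    CohB1.IsAmple (tw I (a : ℤ)) := by
  have h1 := PicPnLib.twist_inv n k 1
  have h2 : CohB1.IsAmple (tw I 1) :=
    AmpleDevLib.isAmple_pb I.subschemeι h1 (FormalCohLib.isAmple_twistProjSpace (n := n) (R := k))
  obtain ⟨e⟩ := nonempty_tensorPow_tw I 1 a
  have hp := CIDivLib.isInvertible_tw I 1
  refine AmpleDevLib.isAmple_of_iso (AmpleThLib.tensorPow_isInvertible hp a) (CIDivLib.isInvertible_tw I _)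
    (e ≪≫ eqToIso (by rw [mul_one])) ((AmpleThLib.isAmple_tensorPow_iff hp ha).1 h2)

theorem subsingleton_HH_tensor_quotMod {Y : Scheme.{u}} (J : Y.IdealSheafData) {M T : Y.Modules}
    (hM : PicF.IsInvertible M) (e : M ≅ T) (i : ℕ)
    (h : Subsingleton (Coh.HH J.subscheme ((Scheme.Modules.pullback J.subschemeι).obj T) i)) :
    Subsingleton (Coh.HH Y ((DCoh.tensorBi.obj M).obj (ClSub.quotMod J)) i) := by
  have hT := AmpleDevLib.isFinLocFree_of_isInvertible hM
  have h' := SerreVanLib.subsingleton_HH_of_iso ((Scheme.Modules.pullback J.subschemeι).mapIso e) i h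
  let w : CohB1.tensorMod M (ClSub.quotMod J) ≅
      (Coh.push J.subschemeι).obj ((Scheme.Modules.pullback J.subschemeι).obj M) :=
    (ProjFormLib.projIso' (f := J.subschemeι) M hT).app (Coh.structureModule _) ≪≫
      (Coh.push J.subschemeι).mapIso (HilbPolyLib.swapIso _ _ ≪≫ HilbPolyLib.unitLeft _)
  refine SerreVanLib.subsingleton_HH_of_iso w i ?_
  haveI : Coh.IsQCoh ((Scheme.Modules.pullback J.subschemeι).obj M) :=
    FinLFAnn.isQCoh_of_isFinLocFree (CohCmpLib.isFinLocFree_pb _ hT)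
  obtain ⟨q⟩ := QCohLib.nonempty_HH_push J.subschemeι ((Scheme.Modules.pullback J.subschemeι).obj M) i
  exact q.symm.toEquiv.subsingleton

section Step

variable {r : ℕ} {a : Fin (r + 1) → ℕ} (G : ∀ j, LefPen.Form n k (a j)) (hr : r + 1 ≤ n) (ha : ∀ j, 0 < a j)
  (hdim : topologicalKrullDim (LefPen.ciIdeal G).subscheme ≤ ((n - (r + 1) : ℕ) : WithBot ℕ∞))

include hr ha hdim in
/-- The low cohomology of the powers of the conormal sheaf of one step vanishes. -/
theorem conormal_vanishing (m : ℕ) (i : ℕ) (hi : 0 < i) (hi' : i < n - (r + 1)) :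
    Subsingleton (Coh.HH (LefPen.ciIdeal fun j : Fin r => G j.castSucc).subscheme
      ((DCoh.tensorBi.obj (CohB1.tensorPow (ClSub.idealMod (stepIdeal G)) m)).obj (ClSub.quotMod (stepIdeal G))) i) := by
  obtain ⟨e⟩ := CIDivLib.nonempty_idealMod_step G hr ha hdim
  obtain ⟨e'⟩ := nonempty_tensorPow_tw (LefPen.ciIdeal fun j : Fin r => G j.castSucc) (-(a (Fin.last r) : ℤ)) m
  obtain ⟨g⟩ := MiscFlat6.nonempty_powCongr e m
  set t : ℤ := (m : ℤ) * (-(a (Fin.last r) : ℤ))
  let ι := (stepIdeal G).subschemeι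
  let T := tw (LefPen.ciIdeal fun j : Fin r => G j.castSucc) t
  have hT := AmpleDevLib.isFinLocFree_of_isInvertible (CIDivLib.isInvertible_tw
    (LefPen.ciIdeal fun j : Fin r => G j.castSucc) t)
  have hs := (CIDivLib.subsingleton_step_iff G t i).2
    (CIDivLib.subsingleton_HH_tw ha G hr hdim t i (.inl ⟨hi, hi'⟩))
  exact subsingleton_HH_tensor_quotMod (stepIdeal G) (HilbPolyLib.isInvertible_of_iso (g ≪≫ e').symm
    (CIDivLib.isInvertible_tw _ t)) (g ≪≫ e') i hs

end Step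

attribute [local instance] CIDivLib.subOver

variable (k) in
/-- The effective Lefschetz condition for ample divisors over `k`. -/
def LeffField : Prop :=
  ∀ (X : Scheme.{u}) [X.Over (Spec (CommRingCat.of k))] [IsProper (X ↘ Spec (CommRingCat.of k))]
    [Flat (X ↘ Spec (CommRingCat.of k))] (𝓘 : X.IdealSheafData) (L : X.Modules)
    (_ : ClSub.IsInverseOf L (ClSub.idealMod 𝓘)) (_ : CohB1.IsAmple L)
    [Flat (𝓘.subschemeι ≫ (X ↘ Spec (CommRingCat.of k)))],
    (∀ y : 𝓘.subscheme, IsClosed ({(𝓘.subschemeι ≫ (X ↘ Spec (CommRingCat.of k))).asFiber y} :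
        Set ((𝓘.subschemeι ≫ (X ↘ Spec (CommRingCat.of k))).fiber
          ((𝓘.subschemeι ≫ (X ↘ Spec (CommRingCat.of k))).base y))) →
      (2 : ℕ∞) ≤ LocCoh.depth ↑(CInt.fiberStalk (𝓘.subschemeι ≫ (X ↘ Spec (CommRingCat.of k))) y)
        ↑(CInt.fiberStalk (𝓘.subschemeι ≫ (X ↘ Spec (CommRingCat.of k))) y)) →
    (∀ x : X, IsClosed ({(X ↘ Spec (CommRingCat.of k)).asFiber x} :
        Set ((X ↘ Spec (CommRingCat.of k)).fiber ((X ↘ Spec (CommRingCat.of k)).base x))) →
      (2 : ℕ∞) ≤ LocCoh.depth ↑(CInt.fiberStalk (X ↘ Spec (CommRingCat.of k)) x)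
        ↑(CInt.fiberStalk (X ↘ Spec (CommRingCat.of k)) x)) →
    LefX.LeffCond X 𝓘

/-- **Pic of a complete intersection of dimension at least three.** -/
theorem pic_ci (hLeff : LeffField k) : ∀ {r : ℕ} {a : Fin r → ℕ} (_ : ∀ j, 0 < a j)
    (G : ∀ j, LefPen.Form n k (a j)), r + 3 ≤ n →
    topologicalKrullDim (LefPen.ciIdeal G).subscheme ≤ ((n - r : ℕ) : WithBot ℕ∞) →
    (∀ L : (LefPen.ciIdeal G).subscheme.Modules, PicF.IsInvertible L →
      ∃ e : ℤ, Nonempty (L ≅ tw (LefPen.ciIdeal G) e)) ∧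
    ∀ e : ℤ, Nonempty (tw (LefPen.ciIdeal G) e ≅ Coh.structureModule (LefPen.ciIdeal G).subscheme) → e = 0
  | 0, a, _, G, hn, _ => by
    haveI := CIDivLib.exists_iso_base G
    let ι := (LefPen.ciIdeal G).subschemeι
    refine ⟨fun L hL => ?_, fun e he => ?_⟩
    · obtain ⟨d, ⟨f⟩⟩ := PicPnLib.exists_twist n k (AmpleDevLib.isInvertible_pb (inv ι) hL)
      exact ⟨d, ⟨((Scheme.Modules.pullbackId _).app L).symm ≪≫
        (Scheme.Modules.pullbackCongr (show 𝟙 _ = ι ≫ inv ι by simp)).app L ≪≫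
        ((Scheme.Modules.pullbackComp ι (inv ι)).app L).symm ≪≫ (Scheme.Modules.pullback ι).mapIso f⟩⟩
    · obtain ⟨f⟩ := he
      obtain ⟨z⟩ := PicPnLib.twist_zero n k
      refine PicPnLib.twist_injective n k (by omega)
        (((Scheme.Modules.pullbackId _).app _).symm ≪≫
          (Scheme.Modules.pullbackCongr (show 𝟙 _ = inv ι ≫ ι by simp)).app _ ≪≫
          ((Scheme.Modules.pullbackComp (inv ι) ι).app _).symm ≪≫ (Scheme.Modules.pullback (inv ι)).mapIso f ≪≫
          KFlatLib.pullUnitIso _ ≪≫ z.symm)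
  | r + 1, a, ha, G, hn, hdim => by
    have hdim' := CIDivLib.dim_prefix G (by omega) ha hdim
    obtain ⟨ihs, ihi⟩ := pic_ci hLeff (fun j => ha j.castSucc) (fun j : Fin r => G j.castSucc) (by omega) hdim'
    let IY := LefPen.ciIdeal fun j : Fin r => G j.castSucc
    let 𝓘 := stepIdeal G
    let f := IY.subscheme ↘ Spec (CommRingCat.of k)
    haveI : IsProper f := CIDivLib.isProper_sub IY
    haveI : IsLocallyNoetherian IY.subscheme := CIDivLib.isLN_sub IY
    haveI : IsLocallyNoetherian 𝓘.subscheme := LocallyOfFiniteType.isLocallyNoetherian 𝓘.subschemeι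
    let Lv := tw IY (a (Fin.last r) : ℤ)
    have hL : ClSub.IsInverseOf Lv (ClSub.idealMod 𝓘) := by
      obtain ⟨e⟩ := CIDivLib.nonempty_idealMod_step G (by omega) ha hdim
      obtain ⟨e'⟩ := CIDivLib.nonempty_tw_add IY (a (Fin.last r) : ℤ) (-(a (Fin.last r) : ℤ))
      obtain ⟨z⟩ := CIDivLib.nonempty_tw_zero IY
      exact ⟨HilbPolyLib.congrRight _ e ≪≫ e' ≪≫ eqToIso (by rw [add_neg_cancel]) ≪≫ z⟩
    have hamp : CohB1.IsAmple Lv := isAmple_tw IY (ha _)
    have hd : ∀ x : IY.subscheme, IsClosed ({x} : Set IY.subscheme) →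
        (2 : ℕ∞) ≤ LocCoh.depth (IY.subscheme.presheaf.stalk x) (IY.subscheme.presheaf.stalk x) := fun x hx =>
      (ci_stalk _ (by omega) hdim' x hx).2.2 2 (by omega)
    have hH : ∀ m : ℕ, 1 ≤ m → ∀ i : ℕ, (i = 1 ∨ i = 2) → Subsingleton (Coh.HH IY.subscheme
        ((DCoh.tensorBi.obj (CohB1.tensorPow (ClSub.idealMod 𝓘) m)).obj (ClSub.quotMod 𝓘)) i) :=
      fun m _ i hi => conormal_vanishing G (by omega) ha hdim m i (by omega) (by omega)
    have hLf : LefX.LeffCond IY.subscheme 𝓘 := hLeff IY.subscheme 𝓘 Lv hL hamp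
      (fun y hy => (le_depth_fiberStalk_iff k _ y 2).2 (two_le_depth_divisor k 𝓘 hL hamp hd
        (fun m hm => hH m hm 1 (.inl rfl)) y (isClosed_of_isClosed_asFiber k _ y hy)))
      (fun x hx => (le_depth_fiberStalk_iff k _ x 2).2 (hd x (isClosed_of_isClosed_asFiber k _ x hx)))
    obtain ⟨hinj, hsurj⟩ := pic_divisor_field k 𝓘 hL hamp hLf hd hH fun x hx _ => by
      haveI : IsNoetherianRing (IY.subscheme.presheaf.stalk x) := inferInstance
      exact ((ParaFLib.isParafactorialLocalRing_iff _).1 (Groth.Agent.S3353.result _ (ci_stalk _ (by omega) hdim' x hx).1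
        ((ci_stalk _ (by omega) hdim' x hx).2.1.symm ▸ by exact_mod_cast (show 4 ≤ n - r by omega)))).2
    obtain ⟨φ, hφ⟩ := CIDivLib.exists_iso_step G
    let back : ∀ t : ℤ, (Scheme.Modules.pullback φ.hom).obj (tw (LefPen.ciIdeal G) t) ≅
        (Scheme.Modules.pullback 𝓘.subschemeι).obj (tw IY t) := fun t =>
      (Scheme.Modules.pullbackComp φ.hom (LefPen.ciIdeal G).subschemeι).app _ ≪≫
        (Scheme.Modules.pullbackCongr hφ).app _ ≪≫ ((Scheme.Modules.pullbackComp _ _).app _).symm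
    let un : ∀ M : (LefPen.ciIdeal G).subscheme.Modules,
        M ≅ (Scheme.Modules.pullback φ.inv).obj ((Scheme.Modules.pullback φ.hom).obj M) := fun M =>
      ((Scheme.Modules.pullbackId _).app M).symm ≪≫
        (Scheme.Modules.pullbackCongr (show 𝟙 _ = φ.inv ≫ φ.hom by simp)).app M ≪≫
        ((Scheme.Modules.pullbackComp φ.inv φ.hom).app M).symm
    refine ⟨fun L hL' => ?_, fun e he => ?_⟩
    · obtain ⟨M, hM, ⟨w⟩⟩ := hsurj _ (AmpleDevLib.isInvertible_pb φ.hom hL')
      obtain ⟨t, ⟨v⟩⟩ := ihs M hM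
      exact ⟨t, ⟨un L ≪≫ (Scheme.Modules.pullback φ.inv).mapIso
        (w.symm ≪≫ (Scheme.Modules.pullback 𝓘.subschemeι).mapIso v ≪≫ (back t).symm) ≪≫ (un _).symm⟩⟩
    · obtain ⟨w⟩ := he
      refine ihi e (hinj _ _ (CIDivLib.isInvertible_tw IY e) (MiscFlat6.isInvertible_structureModule _) ⟨(back e).symm ≪≫
        (Scheme.Modules.pullback φ.hom).mapIso w ≪≫ KFlatLib.pullUnitIso _ ≪≫ (KFlatLib.pullUnitIso _).symm⟩)

end LefFlatLib
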