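import Groth.Agent.LefFlatLib.Neg

/-!
# The fibre criterion on a closed subscheme of projective space
-/

set_option autoImplicit false
set_option linter.unusedSectionVars false
set_option linter.style.haveILetI false
set_option maxHeartbeats 1000000
set_option backward.isDefEq.respectTransparency false
set_option backward.isDefEq.respectTransparency.types false
universe u

open CategoryTheory CategoryTheory.Limits AlgebraicGeometry TopologicalSpace IsLocalRing
open scoped TensorProduct

noncomputable section

namespace LefFlatLib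

/-- The depth of a reduction does not change along a surjection. -/
theorem depth_reduction {R O O' S S' : Type u} [CommRing R] [IsLocalRing R] [CommRing O] [IsLocalRing O]
    [IsNoetherianRing O] [CommRing O'] [IsLocalRing O'] [Algebra R O] [Algebra R O'] [Algebra O O']
    [IsScalarTower R O O'] [CommRing S] [IsLocalRing S] [Algebra O S] [CommRing S'] [IsLocalRing S'] [Algebra O' S']
    [IsLocalHom (algebraMap O O')] [IsLocalHom (algebraMap O S)] [IsLocalHom (algebraMap O' S')]
    (hO : Function.Surjective (algebraMap O O')) (hs : Function.Surjective (algebraMap O S))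
    (hs' : Function.Surjective (algebraMap O' S'))
    (hk : RingHom.ker (algebraMap O S) = (maximalIdeal R).map (algebraMap R O))
    (hk' : RingHom.ker (algebraMap O' S') = (maximalIdeal R).map (algebraMap R O'))
    {N : Type u} [AddCommGroup N] [Module O N] [Module.Finite O N] {M : Type u} [AddCommGroup M] [Module O M]
    [Module O' M] [IsScalarTower O O' M] [Module.Finite O' M] (e : N ≃ₗ[O] M) :
    LocCoh.depth S (S ⊗[O] N) = LocCoh.depth S' (S' ⊗[O'] M) := by
  letI : Algebra O S' := ((algebraMap O' S').comp (algebraMap O O')).toAlgebra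
  haveI : IsScalarTower O O' S' := IsScalarTower.of_algebraMap_eq fun _ => rfl
  haveI : IsLocalHom (algebraMap O S') :=
    inferInstanceAs (IsLocalHom ((algebraMap O' S').comp (algebraMap O O')))
  haveI : Module.Finite O S := Module.Finite.of_surjective (Algebra.linearMap O S) hs
  haveI : Module.Finite O S' := Module.Finite.of_surjective (Algebra.linearMap O S') (hs'.comp hO)
  have hmax : ∀ (T : Type u) [CommRing T] [IsLocalRing T] [Algebra O T] [IsLocalHom (algebraMap O T)],
      Function.Surjective (algebraMap O T) → (maximalIdeal O).map (algebraMap O T) = maximalIdeal T :=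
    fun T _ _ _ _ hT => by
      rcases Ideal.map_eq_top_or_isMaximal_of_surjective (algebraMap O T) hT
        (inferInstance : (maximalIdeal O).IsMaximal) with h | h
      · have h1 : (⊤ : Ideal T) ≤ maximalIdeal T :=
          h.ge.trans (((IsLocalRing.local_hom_TFAE (algebraMap O T)).out 0 2).1 ‹_›)
        exact absurd (top_le_iff.1 h1) (maximalIdeal.isMaximal T).ne_top
      · exact eq_maximalIdeal h
  haveI : IsScalarTower O S' (S' ⊗[O'] M) := IsScalarTower.of_algebraMap_smul fun r z => by
    show algebraMap O' S' (algebraMap O O' r) • z = r • z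
    rw [algebraMap_smul, algebraMap_smul]
  show LocCoh.idealDepth (maximalIdeal S) (S ⊗[O] N) = LocCoh.idealDepth (maximalIdeal S') (S' ⊗[O'] M)
  rw [← hmax S hs, ← hmax S' (hs'.comp hO),
    ← Groth.Agent.S14435.result (A := O) (B := S) (maximalIdeal O) le_rfl (S ⊗[O] N),
    ← Groth.Agent.S14435.result (A := O) (B := S') (maximalIdeal O) le_rfl (S' ⊗[O'] M)]
  let u : N →ₗ[O] S ⊗[O] N := TensorProduct.mk O S N 1
  let v : N →ₗ[O] S' ⊗[O'] M := ((TensorProduct.mk O' S' M 1).restrictScalars O).comp e.toLinearMap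
  have hu : Function.Surjective u := TensorProduct.mk_surjective O N S hs
  have hv : Function.Surjective v := (TensorProduct.mk_surjective O' M S' hs').comp e.surjective
  have hker : LinearMap.ker u = LinearMap.ker v := by
    ext x
    show (1 : S) ⊗ₜ[O] x = 0 ↔ (1 : S') ⊗ₜ[O'] e x = 0
    rw [CohCmpLib.one_tmul_eq_zero_iff hs, CohCmpLib.one_tmul_eq_zero_iff hs', hk, hk']
    have h1 : (maximalIdeal R).map (algebraMap R O') = ((maximalIdeal R).map (algebraMap R O)).map (algebraMap O O') := by
      rw [Ideal.map_map, ← IsScalarTower.algebraMap_eq]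
    rw [h1]
    have h2 := Ideal.smul_restrictScalars ((maximalIdeal R).map (algebraMap R O)) (⊤ : Submodule O' M)
    rw [Submodule.restrictScalars_top] at h2
    refine Iff.trans ?_ (Submodule.restrictScalars_mem O _ _)
    rw [h2, ← e.range, LinearMap.range_eq_map, ← Submodule.map_smul'',
      Submodule.mem_map_equiv, LinearEquiv.symm_apply_apply]
  exact CommAlgDim.idealDepth_congr _ ((LinearMap.quotKerEquivOfSurjective u hu).symm.trans
    ((Submodule.quotEquivOfEq _ _ hker).trans (LinearMap.quotKerEquivOfSurjective v hv)))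

variable {N : ℕ} {A : Type u} [CommRing A] [IsNoetherianRing A]

theorem smoothRel_projSpace [Nontrivial A] : SmoothOfRelativeDimension N (CohB1.ProjSpace.toSpec N A) := by
  haveI hR : HasRingHomProperty (@SmoothOfRelativeDimension N)
    (RingHom.Locally (RingHom.IsStandardSmoothOfRelativeDimension N)) := inferInstance
  haveI : IsZariskiLocalAtSource (@SmoothOfRelativeDimension N) :=
    HasRingHomProperty.instIsZariskiLocalAtSource (P := @SmoothOfRelativeDimension N)
      (Q := RingHom.Locally (RingHom.IsStandardSmoothOfRelativeDimension N))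
  refine IsZariskiLocalAtSource.of_iSup_eq_top (P := @SmoothOfRelativeDimension N) (QCohLib.stdOpen N A)
    (QCohLib.iSup_stdOpen N A) fun i => ?_
  let X₀ : MvPolynomial (Fin (N + 1)) A := MvPolynomial.X i
  have hX : X₀ ∈ CohB1.polyGrading N A 1 := GradedCechLib.X_mem N A i
  change SmoothOfRelativeDimension N ((Proj.basicOpen (CohB1.polyGrading N A) X₀).ι ≫
    Proj.toSpecZero (CohB1.polyGrading N A) ≫ Spec.map (CommRingCat.ofHom (algebraMap A (CohB1.polyGrading N A 0))))
  have e : (Proj.basicOpen (CohB1.polyGrading N A) X₀).ι =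
      (Proj.basicOpenIsoSpec (CohB1.polyGrading N A) X₀ hX one_pos).hom ≫
        Proj.awayι (CohB1.polyGrading N A) X₀ hX one_pos := by
    rw [← Proj.basicOpenIsoSpec_inv_ι, Iso.hom_inv_id_assoc]
  rw [e, Category.assoc, Proj.awayι_toSpecZero_assoc, ← Spec.map_comp]
  suffices SmoothOfRelativeDimension N (Spec.map (CommRingCat.ofHom (algebraMap A (CohB1.polyGrading N A 0)) ≫
      CommRingCat.ofHom (HomogeneousLocalization.fromZeroRingHom (CohB1.polyGrading N A) (Submonoid.powers X₀)))) by
    have := IsZariskiLocalAtSource.comp (P := @SmoothOfRelativeDimension N) this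
      (Proj.basicOpenIsoSpec (CohB1.polyGrading N A) X₀ hX one_pos).hom
    exact this
  rw [HasRingHomProperty.Spec_iff (P := @SmoothOfRelativeDimension N)]
  refine RingHom.locally_of RingHom.isStandardSmoothOfRelativeDimension_respectsIso _ ?_
  have h : (CommRingCat.ofHom (algebraMap A (CohB1.polyGrading N A 0)) ≫
      CommRingCat.ofHom (HomogeneousLocalization.fromZeroRingHom (CohB1.polyGrading N A) (Submonoid.powers X₀))).hom =
      (GenusZeroLib.chartPoly N A i).comp (algebraMap A (MvPolynomial (Fin N) A)) :=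
    RingHom.ext fun r => by simp [GenusZeroLib.chartPoly]; rfl
  rw [h]
  haveI := EtaEtLib.isStandardSmooth_mvPolynomial A N
  have h2 := RingHom.IsStandardSmoothOfRelativeDimension.comp
    (RingHom.IsStandardSmoothOfRelativeDimension.equiv
      (RingEquiv.ofBijective _ (GenusZeroLib.chartPoly_bijective N A i)))
    ((RingHom.isStandardSmoothOfRelativeDimension_algebraMap (R := A) (S := MvPolynomial (Fin N) A) N).mpr inferInstance)
  rwa [Nat.zero_add] at h2

theorem closedPt_fibre (s : Spec (CommRingCat.of A)) (z : (CohB1.ProjSpace.toSpec N A).fiber s)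
    (hz : IsClosed ({z} : Set ((CohB1.ProjSpace.toSpec N A).fiber s))) :
    IsRegularLocalRing (((CohB1.ProjSpace.toSpec N A).fiber s).presheaf.stalk z) ∧
      ringKrullDim (((CohB1.ProjSpace.toSpec N A).fiber s).presheaf.stalk z) = (N : WithBot ℕ∞) := by
  haveI : Nontrivial A := by
    obtain ⟨p⟩ : Nonempty (PrimeSpectrum A) := ⟨s⟩
    exact nontrivial_of_ne 0 1 fun h => p.isPrime.ne_top ((Ideal.eq_top_iff_one _).2 (h ▸ zero_mem _))
  haveI := smoothRel_projSpace (N := N) (A := A)
  haveI := smoothOfRelativeDimension_isStableUnderBaseChange (n := N)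
  haveI : SmoothOfRelativeDimension N ((CohB1.ProjSpace.toSpec N A).fiberToSpecResidueField s) :=
    MorphismProperty.pullback_snd (P := @SmoothOfRelativeDimension N) _ _ inferInstance
  exact CIGen.closedPt_of_smooth ((CohB1.ProjSpace.toSpec N A).fiberToSpecResidueField s) N z hz

theorem pdlt_push_aux {X : Scheme.{u}} (i : X ⟶ CohB1.ProjSpace N A) [IsClosedImmersion i] (G : X.Modules)
    (hG : Coh.IsCoh G) (hflat : FlatMod.IsFlatOver (i ≫ CohB1.ProjSpace.toSpec N A) G) (n r : ℕ)
    (s : Spec (CommRingCat.of A)) (z : (CohB1.ProjSpace.toSpec N A).fiber s)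
    (hzc : IsClosed ({z} : Set ((CohB1.ProjSpace.toSpec N A).fiber s)))
    (z' : (i ≫ CohB1.ProjSpace.toSpec N A).fiber s)
    (hz : (CohB1.ProjSpace.toSpec N A).fiberι s z = i ((i ≫ CohB1.ProjSpace.toSpec N A).fiberι s z'))
    (hdep : letI := (((i ≫ CohB1.ProjSpace.toSpec N A).fiberι s).stalkMap z').hom.toAlgebra
      (n : ℕ∞) < LocCoh.depth (((i ≫ CohB1.ProjSpace.toSpec N A).fiber s).presheaf.stalk z')
        ((((i ≫ CohB1.ProjSpace.toSpec N A).fiber s).presheaf.stalk z')
          ⊗[X.presheaf.stalk ((i ≫ CohB1.ProjSpace.toSpec N A).fiberι s z')]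
            G.presheaf.stalk ((i ≫ CohB1.ProjSpace.toSpec N A).fiberι s z'))) :
    (N ≤ r + n + 1 →
      CommAlgDim.PDLT ((CohB1.ProjSpace N A).presheaf.stalk (i ((i ≫ CohB1.ProjSpace.toSpec N A).fiberι s z')))
        (((Coh.push i).obj G).presheaf.stalk (i ((i ≫ CohB1.ProjSpace.toSpec N A).fiberι s z'))) (r + 1)) ∧
    (N ≤ n → Subsingleton (((Coh.push i).obj G).presheaf.stalk (i ((i ≫ CohB1.ProjSpace.toSpec N A).fiberι s z')))) := by
  haveI := hG.1
  haveI := isLocallyNoetherian_projSpace N A
  haveI : IsLocallyNoetherian X := LocallyOfFiniteType.isLocallyNoetherian i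
  let q := CohB1.ProjSpace.toSpec N A
  let f := i ≫ q
  obtain ⟨hreg, hdim⟩ := closedPt_fibre s z hzc
  have key : ∀ y : CohB1.ProjSpace N A, q.fiberι s z = y →
      ∃ (S : Type u) (_ : CommRing S) (_ : IsRegularLocalRing S) (φ : (CohB1.ProjSpace N A).presheaf.stalk y →+* S),
        Function.Surjective φ ∧ IsLocalHom φ ∧ ringKrullDim S = (N : WithBot ℕ∞) ∧
          RingHom.ker φ = (maximalIdeal ((Spec (CommRingCat.of A)).presheaf.stalk (q y))).map (q.stalkMap y).hom := by
    rintro y rfl
    exact ⟨(q.fiber s).presheaf.stalk z, inferInstance, hreg, ((q.fiberι s).stalkMap z).hom,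
      (Groth.Agent.S9501.result q s z).1, inferInstance, hdim, (Groth.Agent.S9501.result q s z).2⟩
  obtain ⟨S, hS₁, hS₂, φ, hsur, hloc, hSdim, hker⟩ := key _ hz
  letI := hS₁
  haveI := hS₂
  obtain ⟨hsur', hker'⟩ := Groth.Agent.S9501.result f s z'
  let x := f.fiberι s z'
  let y := i x
  let R := (Spec (CommRingCat.of A)).presheaf.stalk (q y)
  let O := (CohB1.ProjSpace N A).presheaf.stalk y
  let O' := X.presheaf.stalk x
  let S' := (f.fiber s).presheaf.stalk z'
  letI : Algebra O S := φ.toAlgebra
  haveI : IsLocalHom (algebraMap O S) := hloc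
  letI : Algebra O' S' := ((f.fiberι s).stalkMap z').hom.toAlgebra
  haveI : IsLocalHom (algebraMap O' S') := inferInstanceAs (IsLocalHom ((f.fiberι s).stalkMap z').hom)
  letI : Algebra O O' := (i.stalkMap x).hom.toAlgebra
  haveI : IsLocalHom (algebraMap O O') := inferInstanceAs (IsLocalHom (i.stalkMap x).hom)
  letI : Algebra R O := (q.stalkMap y).hom.toAlgebra
  haveI : IsLocalHom (algebraMap R O) := inferInstanceAs (IsLocalHom (q.stalkMap y).hom)
  letI : Algebra R O' := ((i.stalkMap x).hom.comp (q.stalkMap y).hom).toAlgebra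
  haveI : IsScalarTower R O O' := IsScalarTower.of_algebraMap_eq fun _ => rfl
  have hcomp : (f.stalkMap x).hom = (i.stalkMap x).hom.comp (q.stalkMap y).hom := by
    rw [show f.stalkMap x = q.stalkMap (i x) ≫ i.stalkMap x from Scheme.Hom.stalkMap_comp i q x]
    rfl
  haveI : Smooth q := GenusZeroLib.smooth_toSpec N A
  haveI : Module.Flat R O := Flat.stalkMap q y
  -- the modules
  let M := G.presheaf.stalk x
  haveI : Module.Finite O' M := DepthLib.finite_stalk G hG.2 x
  letI : Module O M := Module.compHom _ (i.stalkMap x).hom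
  haveI : IsScalarTower O O' M := IsScalarTower.of_algebraMap_smul fun _ _ => rfl
  letI : Module R M := Module.compHom _ ((i.stalkMap x).hom.comp (q.stalkMap y).hom)
  haveI : IsScalarTower R O M := IsScalarTower.of_algebraMap_smul fun _ _ => rfl
  haveI : Module.Flat R M := by
    have h := hflat x
    unfold FlatMod.IsFlatOverAt FlatMod.moduleStalkOver at h
    rw [show ((i ≫ CohB1.ProjSpace.toSpec N A).stalkMap x).hom = (i.stalkMap x).hom.comp (q.stalkMap y).hom from hcomp] at h
    exact h
  haveI : Module.Finite O O' := Module.Finite.of_surjective (Algebra.linearMap O O') (i.stalkMap_surjective x)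
  haveI : Module.Finite O M := Module.Finite.trans O' M
  let σ := (TopCat.Presheaf.stalkPushforward AddCommGrpCat i.base G.presheaf x).hom
  let σ' : ((Coh.push i).obj G).presheaf.stalk y →ₗ[O] M :=
    { toFun := fun a => σ a
      map_add' := fun a b => map_add σ a b
      map_smul' := fun c a => DegPullLib.stalkPushforward_smul i G x c a }
  let e := LinearEquiv.ofBijective σ' (DegPullLib.bijective_stalkPushforward i i.isClosedEmbedding.isClosedMap
    G x fun w hw => i.isClosedEmbedding.injective hw)
  have hdep' : (n : ℕ∞) < LocCoh.depth S (S ⊗[O] M) := by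
    rw [depth_reduction (R := R) (O := O) (O' := O') (S := S) (S' := S') (i.stalkMap_surjective x) hsur hsur' hker
      (by rw [show algebraMap R O' = (f.stalkMap x).hom from hcomp.symm]; exact hker') (LinearEquiv.refl O M)]
    exact hdep
  refine ⟨fun hr => CommAlgDim.PDLT.of_equiv e.symm (pdlt_of_quotient (R := R) (S' := S) hsur hker r M
    (pdlt_of_depth hSdim.le (S ⊗[O] M) n r hr hdep')), fun hn => ?_⟩
  haveI := subsingleton_of_quotient (S' := S) hsur M (subsingleton_of_depth hSdim.le (S ⊗[O] M) n hn hdep')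
  exact e.toEquiv.subsingleton

/-- The fibre depth gives the projective dimension of the push forward at closed points. -/
theorem pdlt_push {X : Scheme.{u}} (i : X ⟶ CohB1.ProjSpace N A) [IsClosedImmersion i] (G : X.Modules)
    (hG : Coh.IsCoh G) (hflat : FlatMod.IsFlatOver (i ≫ CohB1.ProjSpace.toSpec N A) G) (n r : ℕ)
    (hr : N ≤ r + n + 1)
    (hdepth : ∀ (s : Spec (CommRingCat.of A)) (z : (i ≫ CohB1.ProjSpace.toSpec N A).fiber s),
      IsClosed ({z} : Set ((i ≫ CohB1.ProjSpace.toSpec N A).fiber s)) →
      letI := (((i ≫ CohB1.ProjSpace.toSpec N A).fiberι s).stalkMap z).hom.toAlgebra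
      (n : ℕ∞) < LocCoh.depth (((i ≫ CohB1.ProjSpace.toSpec N A).fiber s).presheaf.stalk z)
        ((((i ≫ CohB1.ProjSpace.toSpec N A).fiber s).presheaf.stalk z)
          ⊗[X.presheaf.stalk ((i ≫ CohB1.ProjSpace.toSpec N A).fiberι s z)]
            G.presheaf.stalk ((i ≫ CohB1.ProjSpace.toSpec N A).fiberι s z)))
    (y : CohB1.ProjSpace N A) (hy : IsClosed ({y} : Set (CohB1.ProjSpace N A))) :
    CommAlgDim.PDLT ((CohB1.ProjSpace N A).presheaf.stalk y) (((Coh.push i).obj G).presheaf.stalk y) (r + 1) := by
  haveI := hG.1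
  haveI := isLocallyNoetherian_projSpace N A
  haveI : IsLocallyNoetherian X := LocallyOfFiniteType.isLocallyNoetherian i
  by_cases hmem : y ∈ Set.range ⇑i
  swap
  · have hn : y ∉ CohB1.support ((Coh.push i).obj G) := fun hc => hmem (DevissLib.support_push_subset i G hc)
    haveI : Subsingleton (((Coh.push i).obj G).presheaf.stalk y) := not_not.mp hn
    haveI : Module.Projective ((CohB1.ProjSpace N A).presheaf.stalk y) (((Coh.push i).obj G).presheaf.stalk y) :=
      Module.Projective.of_free
    exact (CommAlgDim.pdlt_one_iff.2 inferInstance).mono (by omega)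
  obtain ⟨x, rfl⟩ := hmem
  let q := CohB1.ProjSpace.toSpec N A
  let f := i ≫ q
  obtain ⟨s, hsx, z, hz⟩ : ∃ s, f x = s ∧ ∃ z : q.fiber s, q.fiberι s z = i x :=
    ⟨_, rfl, q.asFiber (i x), q.fiberι_asFiber _⟩
  obtain ⟨z', hz'⟩ : ∃ z' : f.fiber s, f.fiberι s z' = x := by
    rw [← Set.mem_range, f.range_fiberι]
    exact hsx
  have hxc : IsClosed ({x} : Set X) := by
    convert hy.preimage i.continuous
    exact Set.ext fun w => ⟨fun hw => by simp_all, fun hw => i.isClosedEmbedding.injective hw⟩
  have hzc : IsClosed ({z} : Set (q.fiber s)) := by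
    convert hy.preimage (q.fiberι s).continuous
    exact Set.ext fun w => ⟨fun hw => by simp_all,
      fun hw => (q.fiberι s).isEmbedding.injective (hw.trans hz.symm)⟩
  have hzc' : IsClosed ({z'} : Set (f.fiber s)) := by
    convert hxc.preimage (f.fiberι s).continuous
    exact Set.ext fun w => ⟨fun hw => by simp_all,
      fun hw => (f.fiberι s).isEmbedding.injective (hw.trans hz'.symm)⟩
  subst hz'
  exact (pdlt_push_aux i G hG hflat n r _ z hzc z' hz (hdepth _ z' hzc')).1 hr

/-- Fibre depth at least `N` forces zero. -/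
theorem subsingleton_push {X : Scheme.{u}} (i : X ⟶ CohB1.ProjSpace N A) [IsClosedImmersion i] (G : X.Modules)
    (hG : Coh.IsCoh G) (hflat : FlatMod.IsFlatOver (i ≫ CohB1.ProjSpace.toSpec N A) G) (n : ℕ)
    (hn : N ≤ n)
    (hdepth : ∀ (s : Spec (CommRingCat.of A)) (z : (i ≫ CohB1.ProjSpace.toSpec N A).fiber s),
      IsClosed ({z} : Set ((i ≫ CohB1.ProjSpace.toSpec N A).fiber s)) →
      letI := (((i ≫ CohB1.ProjSpace.toSpec N A).fiberι s).stalkMap z).hom.toAlgebra
      (n : ℕ∞) < LocCoh.depth (((i ≫ CohB1.ProjSpace.toSpec N A).fiber s).presheaf.stalk z)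
        ((((i ≫ CohB1.ProjSpace.toSpec N A).fiber s).presheaf.stalk z)
          ⊗[X.presheaf.stalk ((i ≫ CohB1.ProjSpace.toSpec N A).fiberι s z)]
            G.presheaf.stalk ((i ≫ CohB1.ProjSpace.toSpec N A).fiberι s z)))
    (y : CohB1.ProjSpace N A) (hy : IsClosed ({y} : Set (CohB1.ProjSpace N A))) :
    Subsingleton (((Coh.push i).obj G).presheaf.stalk y) := by
  haveI := hG.1
  haveI := isLocallyNoetherian_projSpace N A
  haveI : IsLocallyNoetherian X := LocallyOfFiniteType.isLocallyNoetherian i
  by_cases hmem : y ∈ Set.range ⇑i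
  swap
  · have hn : y ∉ CohB1.support ((Coh.push i).obj G) := fun hc => hmem (DevissLib.support_push_subset i G hc)
    haveI : Subsingleton (((Coh.push i).obj G).presheaf.stalk y) := not_not.mp hn
    infer_instance
  obtain ⟨x, rfl⟩ := hmem
  let q := CohB1.ProjSpace.toSpec N A
  let f := i ≫ q
  obtain ⟨s, hsx, z, hz⟩ : ∃ s, f x = s ∧ ∃ z : q.fiber s, q.fiberι s z = i x :=
    ⟨_, rfl, q.asFiber (i x), q.fiberι_asFiber _⟩
  obtain ⟨z', hz'⟩ : ∃ z' : f.fiber s, f.fiberι s z' = x := by
    rw [← Set.mem_range, f.range_fiberι]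
    exact hsx
  have hxc : IsClosed ({x} : Set X) := by
    convert hy.preimage i.continuous
    exact Set.ext fun w => ⟨fun hw => by simp_all, fun hw => i.isClosedEmbedding.injective hw⟩
  have hzc : IsClosed ({z} : Set (q.fiber s)) := by
    convert hy.preimage (q.fiberι s).continuous
    exact Set.ext fun w => ⟨fun hw => by simp_all,
      fun hw => (q.fiberι s).isEmbedding.injective (hw.trans hz.symm)⟩
  have hzc' : IsClosed ({z'} : Set (f.fiber s)) := by
    convert hxc.preimage (f.fiberι s).continuous
    exact Set.ext fun w => ⟨fun hw => by simp_all,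
      fun hw => (f.fiberι s).isEmbedding.injective (hw.trans hz'.symm)⟩
  subst hz'
  exact (pdlt_push_aux i G hG hflat n 0 _ z hzc z' hz (hdepth _ z' hzc')).2 hn

end LefFlatLib
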