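import Groth.Agent.LefFlatLib.CI
import Groth.Agent.ProjLefLib.Bundle

/-!
# Depth along a divisor and the effective Lefschetz condition over a field
-/

set_option autoImplicit false
set_option linter.unusedSectionVars false
set_option linter.style.haveILetI false
set_option maxHeartbeats 1000000
set_option backward.isDefEq.respectTransparency false
set_option backward.isDefEq.respectTransparency.types false
universe u

open CategoryTheory CategoryTheory.Limits AlgebraicGeometry TopologicalSpace IsLocalRing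

noncomputable section

namespace LefFlatLib

/-- The depth along an effective Cartier divisor is one more than the depth of the divisor. -/
theorem le_depth_of_divisor {X : Scheme.{u}} [IsLocallyNoetherian X] (𝓘 : X.IdealSheafData)
    (hI : BlowUp.IsEffCartierIdeal 𝓘) (y : 𝓘.subscheme) (d : ℕ)
    (h : (d : ℕ∞) ≤ LocCoh.depth (𝓘.subscheme.presheaf.stalk y) (𝓘.subscheme.presheaf.stalk y)) :
    ((d + 1 : ℕ) : ℕ∞) ≤ LocCoh.depth (X.presheaf.stalk (𝓘.subschemeι y)) (X.presheaf.stalk (𝓘.subschemeι y)) := by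
  obtain ⟨V, t, hy, ht, hV⟩ := ProjLefLib.exists_chart 𝓘 hI (𝓘.subschemeι y)
  haveI : IsLocallyNoetherian 𝓘.subscheme := LocallyOfFiniteType.isLocallyNoetherian 𝓘.subschemeι
  have hk := IntTensorLib.ker_stalkMap_eq_stalkIdeal 𝓘.subschemeι y
  rw [𝓘.ker_subschemeι, SDivLib.stalkIdeal_eq _ V hy, hV, Ideal.map_span, Set.image_singleton] at hk
  set τ := (X.presheaf.germ V.1 (𝓘.subschemeι y) hy).hom t
  have hτm : τ ∈ maximalIdeal _ := le_maximalIdeal (RingHom.ker_ne_top (𝓘.subschemeι.stalkMap y).hom)
    (hk.ge (Ideal.mem_span_singleton_self τ))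
  let e : (X.presheaf.stalk (𝓘.subschemeι y) ⧸ Ideal.span {τ}) ≃+* 𝓘.subscheme.presheaf.stalk y :=
    (Ideal.quotEquivOfEq hk.symm).trans (RingHom.quotientKerEquivOfSurjective (𝓘.subschemeι.stalkMap_surjective y))
  haveI := e.symm.isLocalRing
  rw [← depth_quot_span τ hτm (ProjLefLib.isSMulRegular_germ ht _ hy), Nat.cast_add, Nat.cast_one]
  exact add_le_add (CMFlatLib.le_depth_congr e.symm h) le_rfl

theorem isClosed_asFiber (k : Type u) [Field k] {X : Scheme.{u}} (f : X ⟶ Spec (CommRingCat.of k)) (x : X)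
    (h : IsClosed ({x} : Set X)) : IsClosed ({f.asFiber x} : Set (f.fiber (f x))) := by
  rw [show ({f.asFiber x} : Set (f.fiber (f x))) = (f.fiberι (f x)) ⁻¹' {x} from ?_]
  · exact h.preimage (f.fiberι (f x)).continuous
  · ext w
    rw [Set.mem_preimage, Set.mem_singleton_iff, Set.mem_singleton_iff]
    exact ⟨fun h => by rw [h, f.fiberι_asFiber],
      fun h => (f.fiberι (f x)).isEmbedding.injective (h.trans (f.fiberι_asFiber x).symm)⟩

/-- The effective Lefschetz condition over a field. -/
theorem leffField (k : Type u) [Field k] : LeffField k := by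
  intro X _ _ _ 𝓘 L hL hamp _ h0 h1
  haveI : IsNoetherian X := CurvLib.isNoetherian k (X := X)
  have hI : BlowUp.IsEffCartierIdeal 𝓘 := IntMultLib.isEffCartier_of_isInvertible 𝓘
    (CohCmpLib.isInvertible_of_inverse' hamp.1 hL.some)
  haveI : IsLocallyNoetherian 𝓘.subscheme := LocallyOfFiniteType.isLocallyNoetherian 𝓘.subschemeι
  refine ProjLefLib.leffCond_field k 𝓘 hL hamp
    (fun x hx => (le_depth_fiberStalk_iff k _ x 2).1 (h1 x ?_)) fun x hx hxs => ?_
  · exact isClosed_asFiber k _ x hx
  · obtain ⟨y, rfl⟩ := 𝓘.range_subschemeι.ge hxs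
    refine le_depth_of_divisor 𝓘 hI y 2 ((le_depth_fiberStalk_iff k _ y 2).1 (h0 y (isClosed_asFiber k _ y ?_)))
    rw [𝓘.subschemeι.isClosedEmbedding.isClosed_iff_image_isClosed, Set.image_singleton]
    exact hx

end LefFlatLib
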