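import Groth.Agent.LefFlatLib.Lef
import Groth.Agent.LefFlatLib.Leff

/-!
# The effective Lefschetz condition for an ample relative divisor with fibres of depth two
-/

set_option autoImplicit false
set_option linter.unusedSectionVars false
set_option linter.style.haveILetI false
set_option maxHeartbeats 1000000
set_option backward.isDefEq.respectTransparency false
set_option backward.isDefEq.respectTransparency.types false
universe u

open CategoryTheory CategoryTheory.Limits AlgebraicGeometry TopologicalSpace IsLocalRing FSch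
open CohCmpLib (stk)
open scoped TensorProduct

noncomputable section

namespace LefFlatLib

theorem fibDepth_of_locFree {A : Type u} [CommRing A] {X : Scheme.{u}} [IsLocallyNoetherian X]
    (f : X ⟶ Spec (CommRingCat.of A)) [LocallyOfFiniteType f] [IsNoetherianRing A] {G : X.Modules}
    (hG : FlatMod.IsFinLocFree G) (n : ℕ)
    (h : ∀ x : X, IsClosed ({f.asFiber x} : Set ↥(f.fiber (f x))) →
      (n : ℕ∞) < LocCoh.depth (CInt.fiberStalk f x) (CInt.fiberStalk f x)) :
    FibDepth f G n := by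
  intro s z hc
  have hs : f (f.fiberι s z) = s := by
    have h1 : f.fiberι s z ∈ f ⁻¹' {s} := by rw [← f.range_fiberι]; exact ⟨z, rfl⟩
    exact h1
  have key : ∀ (x : X) (s : Spec (CommRingCat.of A)), f x = s → ∀ z : f.fiber s, f.fiberι s z = x →
      IsClosed ({z} : Set (f.fiber s)) →
      ((n + 1 : ℕ) : ℕ∞) ≤ LocCoh.depth ((f.fiber s).presheaf.stalk z) ((f.fiber s).presheaf.stalk z) := by
    intro x s hs z hz hc
    subst hs
    obtain rfl : z = f.asFiber x := (f.fiberι (f x)).isEmbedding.injective (hz.trans (f.fiberι_asFiber x).symm)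
    rw [Nat.cast_add, Nat.cast_one]
    exact (ENat.add_one_le_iff (ENat.coe_ne_top _)).2 (h x hc)
  have hd := key _ s hs z rfl hc
  letI := ((f.fiberι s).stalkMap z).hom.toAlgebra
  haveI : LocallyOfFiniteType (f.fiberToSpecResidueField s) := MorphismProperty.pullback_snd _ _ ‹_›
  haveI : IsLocallyNoetherian (f.fiber s) := LocallyOfFiniteType.isLocallyNoetherian (f.fiberToSpecResidueField s)
  let F := (f.fiber s).presheaf.stalk z
  let x := f.fiberι s z
  obtain ⟨r, ⟨e⟩⟩ := LocSuppLib.nonempty_stalk_pi hG x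
  let e' : (F ⊗[X.presheaf.stalk x] (G.presheaf.stalk x)) ≃ₗ[F] (Fin r → F) :=
    (e.baseChange _ F _ _).trans (TensorProduct.piScalarRight (X.presheaf.stalk x) F F (Fin r))
  refine (ENat.add_one_le_iff (ENat.coe_ne_top n)).1 ?_
  rw [← Nat.cast_one, ← Nat.cast_add]
  obtain ⟨rs, hl, hm, hr⟩ := InvLib.hasSeq_of_le_depth hd
  refine InvLib.HasSeq.le_depth ⟨rs, hl, hm, ?_⟩
  exact ((e' ≪≫ₗ (TensorProduct.rid F (Fin r → F)).symm).isWeaklyRegular_congr rs).2 hr.isWeaklyRegular_lTensor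

theorem isFlatOver_of_locFree {X S : Scheme.{u}} (f : X ⟶ S) [Flat f] {G : X.Modules}
    (hG : FlatMod.IsFinLocFree G) : FlatMod.IsFlatOver f G := by
  intro x
  letI : Algebra (S.presheaf.stalk (f x)) (X.presheaf.stalk x) := (f.stalkMap x).hom.toAlgebra
  haveI : Module.Flat (S.presheaf.stalk (f x)) (X.presheaf.stalk x) := Flat.stalkMap f x
  obtain ⟨r, ⟨e⟩⟩ := LocSuppLib.nonempty_stalk_pi hG x
  letI : Module (S.presheaf.stalk (f x)) (G.presheaf.stalk x) := FlatMod.moduleStalkOver f G x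
  let e' : (G.presheaf.stalk x) ≃ₗ[S.presheaf.stalk (f x)] (Fin r → X.presheaf.stalk x) :=
    { e.toAddEquiv with map_smul' := fun c a => (e.map_smul ((f.stalkMap x).hom c) a).trans (by
        funext i
        exact (Algebra.smul_def c _).symm) }
  show Module.Flat (S.presheaf.stalk (f x)) (G.presheaf.stalk x)
  haveI : Module.Flat (S.presheaf.stalk (f x)) (Fin r → X.presheaf.stalk x) :=
    Module.Flat.of_linearEquiv (TensorProduct.piScalarRight (S.presheaf.stalk (f x)) (S.presheaf.stalk (f x))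
      (X.presheaf.stalk x) (Fin r)).symm
  exact Module.Flat.of_linearEquiv e'

/-- Negative twists of a finite locally free module have no low cohomology. -/
theorem van_locFree (A : Type u) [CommRing A] [IsNoetherianRing A] {X : Scheme.{u}}
    [X.Over (Spec (CommRingCat.of A))] [IsProper (X ↘ Spec (CommRingCat.of A))]
    [Flat (X ↘ Spec (CommRingCat.of A))] {L M : X.Modules} (hamp : CohB1.IsAmple L) (hM : ClSub.IsInverseOf L M)
    (hd : ∀ x : X, IsClosed ({((X ↘ Spec (CommRingCat.of A))).asFiber x} :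
        Set ↥(((X ↘ Spec (CommRingCat.of A))).fiber (((X ↘ Spec (CommRingCat.of A))) x))) →
      (2 : ℕ∞) ≤ LocCoh.depth ↑(CInt.fiberStalk (X ↘ Spec (CommRingCat.of A)) x)
        ↑(CInt.fiberStalk (X ↘ Spec (CommRingCat.of A)) x))
    {G : X.Modules} (hG : FlatMod.IsFinLocFree G) :
    ∃ m₀ : ℕ, ∀ m : ℕ, m₀ ≤ m → ∀ j : ℕ, j ≤ 1 →
      Subsingleton (Coh.HH X (CohB1.tensorMod G (CohB1.tensorPow M m)) j) := by
  haveI : IsLocallyNoetherian X := LocallyOfFiniteType.isLocallyNoetherian (X ↘ Spec (CommRingCat.of A))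
  exact exists_vanishing A hamp hM G (LocSuppLib.isCoh_of_isFinLocFree hG) (isFlatOver_of_locFree _ hG) 1
    (fibDepth_of_locFree _ hG 1 fun x hx => lt_of_lt_of_le (by norm_num) (hd x hx))

theorem subsingleton_HH_tensor_push {Y Z : Scheme.{u}} [IsLocallyNoetherian Z] (ι : Z ⟶ Y) [IsClosedImmersion ι] {P : Y.Modules}
    (hP : PicF.IsInvertible P) {G : Z.Modules} (hG : FlatMod.IsFinLocFree G) (i : ℕ)
    (h : Subsingleton (Coh.HH Z (CohB1.tensorMod ((Scheme.Modules.pullback ι).obj P) G) i)) :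
    Subsingleton (Coh.HH Y (CohB1.tensorMod P ((Coh.push ι).obj G)) i) := by
  refine SerreVanLib.subsingleton_HH_of_iso
    ((ProjFormLib.projIso' (f := ι) P (AmpleDevLib.isFinLocFree_of_isInvertible hP)).app G) i ?_
  haveI : Coh.IsQCoh (CohB1.tensorMod ((Scheme.Modules.pullback ι).obj P) G) :=
    FinLFAnn.isQCoh_of_isFinLocFree (VBResLib.vb_tensor _ (LeffPicLib.isFinLocFree_of_invertible
      (AmpleDevLib.isInvertible_pb ι hP)) hG)
  obtain ⟨q⟩ := QCohLib.nonempty_HH_push ι (CohB1.tensorMod ((Scheme.Modules.pullback ι).obj P) G) i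
  exact q.symm.toEquiv.subsingleton

/-- Twists by powers of the ideal of the push forward from the divisor. -/
theorem van_push {X : Scheme.{u}} [IsLocallyNoetherian X] {𝓘 J : X.IdealSheafData}
    (hI : BlowUp.IsEffCartierIdeal 𝓘) {G : J.subscheme.Modules} (hG : FlatMod.IsFinLocFree G)
    (h : ∃ m₀ : ℕ, ∀ m : ℕ, m₀ ≤ m → ∀ j : ℕ, j ≤ 1 → Subsingleton (Coh.HH J.subscheme (CohB1.tensorMod G
      (CohB1.tensorPow ((Scheme.Modules.pullback J.subschemeι).obj (ClSub.idealMod 𝓘)) m)) j)) :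
    ProjLefLib.Van 𝓘 ((Coh.push J.subschemeι).obj G) := by
  obtain ⟨m₀, hm₀⟩ := h
  refine ⟨m₀, fun n hn j hj => ?_⟩
  obtain ⟨-, ⟨e⟩⟩ := BlowPtLib.nonempty_idealMod_pow 𝓘 hI n
  haveI : IsLocallyNoetherian J.subscheme := LocallyOfFiniteType.isLocallyNoetherian J.subschemeι
  obtain ⟨t⟩ := CurveDualLib.nonempty_pb_tensorPow J.subschemeι (ClSub.idealMod 𝓘) n
  have h1 := SerreVanLib.subsingleton_HH_of_iso (HilbPolyLib.swapIso _ G ≪≫ HilbPolyLib.congrRight G t) j
    (hm₀ n hn j (by omega))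
  exact SerreVanLib.subsingleton_HH_of_iso (HilbPolyLib.congrRight _ e.symm ≪≫ HilbPolyLib.swapIso _ _) j
    (subsingleton_HH_tensor_push J.subschemeι
      (AmpleThLib.tensorPow_isInvertible (IntMultLib.isInvertible_idealMod _ hI) n) hG j h1)

/-- **The effective Lefschetz condition with fibres of depth two.** -/
theorem leffCond_fibre (A : Type u) [CommRing A] [IsNoetherianRing A] {X : Scheme.{u}}
    [X.Over (Spec (CommRingCat.of A))] [IsProper (X ↘ Spec (CommRingCat.of A))]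
    [Flat (X ↘ Spec (CommRingCat.of A))] (𝓘 : X.IdealSheafData) {L : X.Modules}
    (hL : ClSub.IsInverseOf L (ClSub.idealMod 𝓘)) (hamp : CohB1.IsAmple L)
    [Flat (𝓘.subschemeι ≫ (X ↘ Spec (CommRingCat.of A)))]
    (hd0 : ∀ y : ↥(𝓘.subscheme), IsClosed ({((𝓘.subschemeι ≫ (X ↘ Spec (CommRingCat.of A)))).asFiber y} :
        Set ↥(((𝓘.subschemeι ≫ (X ↘ Spec (CommRingCat.of A)))).fiber (((𝓘.subschemeι ≫ (X ↘ Spec (CommRingCat.of A)))).base y))) →
      (2 : ℕ∞) ≤ LocCoh.depth ↑(CInt.fiberStalk (𝓘.subschemeι ≫ (X ↘ Spec (CommRingCat.of A))) y)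
        ↑(CInt.fiberStalk (𝓘.subschemeι ≫ (X ↘ Spec (CommRingCat.of A))) y))
    (hd : ∀ x : X, IsClosed ({((X ↘ Spec (CommRingCat.of A))).asFiber x} :
        Set ↥(((X ↘ Spec (CommRingCat.of A))).fiber (((X ↘ Spec (CommRingCat.of A))) x))) →
      (2 : ℕ∞) ≤ LocCoh.depth ↑(CInt.fiberStalk (X ↘ Spec (CommRingCat.of A)) x)
        ↑(CInt.fiberStalk (X ↘ Spec (CommRingCat.of A)) x)) : LefX.LeffCond X 𝓘 := by
  haveI : IsLocallyNoetherian X := LocallyOfFiniteType.isLocallyNoetherian (X ↘ Spec (CommRingCat.of A))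
  have hI : BlowUp.IsEffCartierIdeal 𝓘 := IntMultLib.isEffCartier_of_isInvertible 𝓘
    (CohCmpLib.isInvertible_of_inverse' hamp.1 hL.some)
  have hv : ProjLefLib.VanAll 𝓘 := fun M hM => by
    obtain ⟨m₀, hm₀⟩ := van_locFree A hamp hL hd hM
    refine ⟨m₀, fun n hn j hj => ?_⟩
    obtain ⟨-, ⟨e⟩⟩ := BlowPtLib.nonempty_idealMod_pow 𝓘 hI n
    exact SerreVanLib.subsingleton_HH_of_iso (HilbPolyLib.congrRight M e.symm) j (hm₀ n hn j (by omega))
  have h0 : ∀ J : X.IdealSheafData, J = 𝓘 → ∀ G : J.subscheme.Modules, FlatMod.IsFinLocFree G →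
      ProjLefLib.Van 𝓘 ((Coh.push J.subschemeι).obj G) := by
    intro J hJ G hG
    subst hJ
    letI : J.subscheme.Over (Spec (CommRingCat.of A)) := ⟨J.subschemeι ≫ (X ↘ Spec (CommRingCat.of A))⟩
    haveI : IsProper (J.subscheme ↘ Spec (CommRingCat.of A)) := inferInstanceAs (IsProper (J.subschemeι ≫ _))
    haveI : Flat (J.subscheme ↘ Spec (CommRingCat.of A)) := ‹_›
    refine van_push hI hG (van_locFree A (AmpleDevLib.isAmple_pb J.subschemeι hamp.1 hamp) ?_ hd0 hG)
    exact ⟨(PicPnLib.pullTens J.subschemeι _ _).symm ≪≫ (Scheme.Modules.pullback J.subschemeι).mapIso hL.some ≪≫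
      KFlatLib.pullUnitIso _⟩
  refine ProjLefLib.leffCond_of_van (A := A) hI hL hamp hv (fun 𝔐 h𝔐 => ?_) (lefCond_fibre A 𝓘 hL hamp hd)
  exact h0 (𝓘 ^ (0 + 1)) (by rw [zero_add, pow_one]) (𝔐.F 0) (h𝔐 0)

end LefFlatLib
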