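import Groth.Agent.LefFlatLib.Pic
import Groth.Agent.LeffEtLib.Pure
import Groth.Agent.S2950
import Groth.Agent.PurityGlueLib.Equiv

/-!
# Finite étale covers of a flat family with pure fibres
-/

set_option autoImplicit false
set_option linter.unusedSectionVars false
set_option linter.style.haveILetI false
set_option maxHeartbeats 1000000
set_option backward.isDefEq.respectTransparency false
set_option backward.isDefEq.respectTransparency.types false
universe u

open CategoryTheory CategoryTheory.Limits AlgebraicGeometry TopologicalSpace IsLocalRing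
open LeffEt (isPullback_lift restrictComp exists_nhd_extension)

noncomputable section

namespace LefFlatLib

theorem purityHolds_of_isPurePair {R : Type u} [CommRing R] [IsLocalRing R]
    (h : SGA2.IsPurePair (Spec (CommRingCat.of R)) (FEt.puncturedSpec R)) : FEt.PurityHolds R := by
  let X := Spec (CommRingCat.of R)
  let U := FEt.puncturedSpec R
  haveI := h ⊤
  let j := X.homOfLE (inf_le_left : (⊤ : X.Opens) ⊓ U ≤ ⊤)
  let a := X.homOfLE (le_inf le_top le_rfl : U ≤ (⊤ : X.Opens) ⊓ U)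
  haveI : IsIso a := ⟨X.homOfLE (inf_le_right : (⊤ : X.Opens) ⊓ U ≤ U), by simp [a], by simp [a]⟩
  haveI : IsIso (⊤ : X.Opens).ι := inferInstanceAs (IsIso X.topIso.hom)
  haveI : (FEt.restrict a).IsEquivalence := Groth.Agent.S0238.result a
  haveI : (FEt.restrict (⊤ : X.Opens).ι).IsEquivalence := Groth.Agent.S0238.result _
  let e : FEt.restrict U.ι ≅ FEt.restrict (⊤ : X.Opens).ι ⋙ FEt.restrict j ⋙ FEt.restrict a :=
    restrictComp (a ≫ j) (⊤ : X.Opens).ι _ (by simp [a, j]) ≪≫ Functor.isoWhiskerLeft _ (restrictComp a j _ rfl)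
  exact Functor.essSurj_of_iso e.symm

theorem pure_of_fibre {X S : Scheme.{u}} [IsLocallyNoetherian X] [IsLocallyNoetherian S] (f : X ⟶ S) [Flat f] (x : X)
    (hd : (3 : ℕ∞) ≤ LocCoh.depth (CInt.fiberStalk f x) (CInt.fiberStalk f x))
    (hp : SGA2.IsPurePair (Spec (CommRingCat.of (CInt.fiberStalk f x))) (FEt.puncturedSpec (CInt.fiberStalk f x))) :
    (2 : ℕ∞) ≤ LocCoh.depth (X.presheaf.stalk x) (X.presheaf.stalk x) ∧ FEt.PurityHolds (X.presheaf.stalk x) := by
  letI : Algebra (S.presheaf.stalk (f x)) (X.presheaf.stalk x) := (f.stalkMap x).hom.toAlgebra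
  haveI : Module.Flat (S.presheaf.stalk (f x)) (X.presheaf.stalk x) := Flat.stalkMap f x
  haveI : IsLocalHom (algebraMap (S.presheaf.stalk (f x)) (X.presheaf.stalk x)) :=
    inferInstanceAs (IsLocalHom (f.stalkMap x).hom)
  haveI : IsLocalRing ((X.presheaf.stalk x) ⧸
      (maximalIdeal (S.presheaf.stalk (f x))).map (algebraMap (S.presheaf.stalk (f x)) (X.presheaf.stalk x))) :=
    GorLib.isLocalRing_quotient (GorLib.map_maximalIdeal_ne_top _ _)
  haveI : IsLocalRing (GorLib.Fib (S.presheaf.stalk (f x)) (X.presheaf.stalk x)) := ‹_›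
  haveI : IsNoetherianRing (GorLib.Fib (S.presheaf.stalk (f x)) (X.presheaf.stalk x)) :=
    Ideal.Quotient.isNoetherianRing _
  obtain ⟨e⟩ := CMFlatLib.nonempty_fibre_equiv f x
  haveI : IsNoetherianRing (CInt.fiberStalk f x) :=
    isNoetherianRing_of_ringEquiv (GorLib.Fib (S.presheaf.stalk (f x)) (X.presheaf.stalk x)) e.symm
  have h3 := CMFlatLib.le_depth_congr e (d := 3) hd
  refine ⟨CMFlatLib.le_depth_of_fib (S.presheaf.stalk (f x)) (X.presheaf.stalk x) (d := 2)
    (le_trans (by norm_num) h3), ?_⟩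
  exact Groth.Agent.S2950.result (S.presheaf.stalk (f x)) (X.presheaf.stalk x) h3
    (PurityGlueLib.purityHolds_of_ringEquiv e (purityHolds_of_isPurePair hp))

/-- Restriction of finite étale covers is an equivalence, given purity off the neighbourhoods. -/
theorem isEquivalence_of_leff {X : Scheme.{u}} [IsLocallyNoetherian X] {𝓘 : X.IdealSheafData} (h : LefX.LeffCond X 𝓘)
    (hpur : ∀ U : X.Opens, (𝓘.support : Set X) ⊆ (U : Set X) → ∀ x : X, x ∉ U →
      (2 : ℕ∞) ≤ LocCoh.depth (X.presheaf.stalk x) (X.presheaf.stalk x) ∧ FEt.PurityHolds (X.presheaf.stalk x)) :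
    (FEt.restrict 𝓘.subschemeι).IsEquivalence := by
  have hrange : ∀ {U : X.Opens}, (𝓘.support : Set X) ⊆ (U : Set X) →
      Set.range 𝓘.subschemeι ⊆ Set.range U.ι := fun {U} hU => by
    rw [Scheme.IdealSheafData.range_subschemeι, Scheme.Opens.range_ι]
    exact hU
  have htop : (𝓘.support : Set X) ⊆ ((⊤ : X.Opens) : Set X) := fun _ _ => trivial
  let i := IsOpenImmersion.lift (⊤ : X.Opens).ι 𝓘.subschemeι (hrange htop)
  have hi : i ≫ (⊤ : X.Opens).ι = 𝓘.subschemeι := IsOpenImmersion.lift_fac _ _ _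
  have hsq := isPullback_lift (⊤ : X.Opens).ι i hi
  haveI : IsClosedImmersion i := MorphismProperty.of_isPullback hsq.flip inferInstance
  have hk : i.ker = 𝓘.comap (⊤ : X.Opens).ι := by
    rw [← hsq.isoPullback_hom_fst, Scheme.Hom.ker_comp_of_isIso, Scheme.IdealSheafData.ker_fst_of_isClosedImmersion,
      Scheme.IdealSheafData.ker_subschemeι]
  have hk' : (𝓘.comap (⊤ : X.Opens).ι).subschemeι.ker = i.ker := by rw [Scheme.IdealSheafData.ker_subschemeι, hk]
  let w := IsClosedImmersion.lift (𝓘.comap (⊤ : X.Opens).ι).subschemeι i hk'.le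
  haveI : IsIso w := IsClosedImmersion.isIso_lift _ _ hk'
  have hw : w ≫ (𝓘.comap (⊤ : X.Opens).ι).subschemeι = i := IsClosedImmersion.lift_fac _ _ _
  haveI := PurityGlueLib.isEquivalence_of_purity (⊤ : X.Opens) (fun x hx => absurd trivial hx) fun x hx => absurd trivial hx
  haveI : (FEt.restrict w).IsEquivalence := Groth.Agent.S0238.result w
  obtain ⟨hfull, hfaith⟩ := Groth.Agent.S2947.result X 𝓘 h.1 ⊤ htop
  let e : FEt.restrict (⊤ : X.Opens).ι ⋙ FEt.restrict (𝓘.comap (⊤ : X.Opens).ι).subschemeι ⋙ FEt.restrict w ≅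
      FEt.restrict 𝓘.subschemeι :=
    Functor.isoWhiskerLeft _ (restrictComp w _ i hw.symm).symm ≪≫ (restrictComp i _ _ hi.symm).symm
  haveI := hfull
  haveI := hfaith
  haveI : (FEt.restrict 𝓘.subschemeι).Full := Functor.Full.of_iso e
  haveI : (FEt.restrict 𝓘.subschemeι).Faithful := Functor.Faithful.of_iso e
  haveI : (FEt.restrict 𝓘.subschemeι).EssSurj := ⟨fun R => by
    obtain ⟨U, R', hY, hR'⟩ := exists_nhd_extension h R
    let i' := IsOpenImmersion.lift U.ι 𝓘.subschemeι (hrange hY)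
    have hi' : i' ≫ U.ι = 𝓘.subschemeι := IsOpenImmersion.lift_fac _ _ _
    obtain ⟨eR⟩ := hR' i' hi'
    haveI := PurityGlueLib.isEquivalence_of_purity U (fun x hx => (hpur U hY x hx).1) fun x hx => (hpur U hY x hx).2
    exact ⟨(FEt.restrict U.ι).objPreimage R', ⟨(restrictComp i' U.ι _ hi'.symm).app _ ≪≫
      (FEt.restrict i').mapIso ((FEt.restrict U.ι).objObjPreimageIso R') ≪≫ eR⟩⟩⟩
  exact { }

theorem isEquivalence_fibre (A : Type u) [CommRing A] [IsNoetherianRing A] (X : Scheme.{u})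
    [X.Over (Spec (CommRingCat.of A))] [IsProper (X ↘ Spec (CommRingCat.of A))]
    [Flat (X ↘ Spec (CommRingCat.of A))] (𝓘 : X.IdealSheafData) (L : X.Modules)
    (hL : ClSub.IsInverseOf L (ClSub.idealMod 𝓘)) (hamp : CohB1.IsAmple L) (hLeff : LefX.LeffCond X 𝓘)
    (hdepth : ∀ x : X, IsClosed ({((X ↘ Spec (CommRingCat.of A))).asFiber x} :
        Set ↥(((X ↘ Spec (CommRingCat.of A))).fiber (((X ↘ Spec (CommRingCat.of A))).base x))) →
      (3 : ℕ∞) ≤ LocCoh.depth ↑(CInt.fiberStalk (X ↘ Spec (CommRingCat.of A)) x)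
        ↑(CInt.fiberStalk (X ↘ Spec (CommRingCat.of A)) x))
    (hpure : ∀ x : X, IsClosed ({((X ↘ Spec (CommRingCat.of A))).asFiber x} :
        Set ↥(((X ↘ Spec (CommRingCat.of A))).fiber (((X ↘ Spec (CommRingCat.of A))).base x))) →
      x ∉ (𝓘.support : Set X) →
      SGA2.IsPurePair (Spec (CommRingCat.of ↑(CInt.fiberStalk (X ↘ Spec (CommRingCat.of A)) x)))
        (FEt.puncturedSpec ↑(CInt.fiberStalk (X ↘ Spec (CommRingCat.of A)) x))) :
    (FEt.restrict 𝓘.subschemeι).IsEquivalence := by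
  haveI : IsLocallyNoetherian X := LocallyOfFiniteType.isLocallyNoetherian (X ↘ Spec (CommRingCat.of A))
  refine isEquivalence_of_leff hLeff fun U hU x hx => ?_
  have hc := (Groth.Agent.S5195.result A X 𝓘 L hL hamp (U : Set X)ᶜ U.isOpen.isClosed_compl
    (Set.disjoint_left.2 fun y hy hy' => hy (hU hy')) 0).1 x hx
  exact pure_of_fibre _ x (hdepth x hc) (hpure x hc fun h => hx (hU h))

end LefFlatLib
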