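import Groth.Agent.LefFlatLib.Fib
import Groth.Agent.LefFieldLib.Main
import Groth.Agent.RelFlatLib.Basic
import Groth.Agent.SurfExtLib.CBPoint
import Groth.Agent.SurfNumLib.IdealMul
import Groth.Agent.LefAlgzLib.Hom

/-!
# Vanishing of negative twists and the formal limit for flat families
-/

set_option autoImplicit false
set_option linter.unusedSectionVars false
set_option linter.style.haveILetI false
set_option maxHeartbeats 1000000
set_option backward.isDefEq.respectTransparency false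
set_option backward.isDefEq.respectTransparency.types false
universe u

open CategoryTheory CategoryTheory.Limits AlgebraicGeometry TopologicalSpace
open ProjFormLib (tF ger ger_res ger_map ger_smul exists_ger)
open KFlatLib (shTm tens stalkTensorLin)
open CohCmpLib (stk)
open scoped TensorProduct

noncomputable section

namespace LefFlatLib

variable {A : Type u} [CommRing A] [IsNoetherianRing A] {X : Scheme.{u}}

/-- Depth `> n` at the closed points of all the fibres. -/
def FibDepth (f : X ⟶ Spec (CommRingCat.of A)) (G : X.Modules) (n : ℕ) : Prop :=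
  ∀ (s : Spec (CommRingCat.of A)) (z : f.fiber s), IsClosed ({z} : Set (f.fiber s)) →
    letI := ((f.fiberι s).stalkMap z).hom.toAlgebra
    (n : ℕ∞) < LocCoh.depth ((f.fiber s).presheaf.stalk z)
      (((f.fiber s).presheaf.stalk z) ⊗[X.presheaf.stalk (f.fiberι s z)] G.presheaf.stalk (f.fiberι s z))

theorem fibDepth_of_fiberDepth (f : X ⟶ Spec (CommRingCat.of A)) (G : X.Modules) (n : ℕ)
    (h : ∀ x : X, IsClosed ({f.asFiber x} : Set ↥(f.fiber (f x))) →
      (n : ℕ∞) < LocCoh.depth (CInt.fiberStalk f x)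
        ((CohIII.fiberMod f G (f x)).presheaf.stalk (f.asFiber x))) : FibDepth f G n := by
  have key : ∀ (x : X) (s : Spec (CommRingCat.of A)), f x = s → ∀ z : f.fiber s, f.fiberι s z = x →
      IsClosed ({z} : Set (f.fiber s)) →
      (n : ℕ∞) < LocCoh.depth ((f.fiber s).presheaf.stalk z)
        (((Scheme.Modules.pullback (f.fiberι s)).obj G).presheaf.stalk z) := by
    intro x s hs z hz hc
    subst hs
    obtain rfl : z = f.asFiber x := (f.fiberι (f x)).isEmbedding.injective (hz.trans (f.fiberι_asFiber x).symm)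
    exact h x hc
  intro s z hc
  have hs : f (f.fiberι s z) = s := by
    have h1 : f.fiberι s z ∈ f ⁻¹' {s} := by rw [← f.range_fiberι]; exact ⟨z, rfl⟩
    exact h1
  letI := ((f.fiberι s).stalkMap z).hom.toAlgebra
  exact (key _ s hs z rfl hc).trans_eq (CommAlgDim.depth_congr
    ((KFlatLib.stalkPullIso (f.fiberι s) z).app G).toLinearEquiv)

theorem FibDepth.tensor {f : X ⟶ Spec (CommRingCat.of A)} {G P : X.Modules} {n : ℕ} (hP : PicF.IsInvertible P)
    (h : FibDepth f G n) : FibDepth f (CohB1.tensorMod G P) n := by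
  intro s z hc
  letI := ((f.fiberι s).stalkMap z).hom.toAlgebra
  let x := f.fiberι s z
  obtain ⟨U, g, hxU, hg⟩ := TwistLib.exists_genOn hP x
  let ε : stk G x ≃ₗ[X.presheaf.stalk x] stk (tens P G) x :=
    LinearEquiv.ofBijective _ (PnDualLib.bijective_ins P G x (ger P x hxU g) (hg.genAt hxU))
  let ε' : stk (tens P G) x ≃ₗ[X.presheaf.stalk x] stk (tens G P) x :=
    ((DerSch.stalkFunctor X x).mapIso (KFlatLib.tensSwap G P)).toLinearEquiv
  exact (h s z hc).trans_eq (CommAlgDim.depth_congr ((ε.trans ε').baseChange _ ((f.fiber s).presheaf.stalk z) _ _))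

theorem isFlatOver_tensor {f : X ⟶ Spec (CommRingCat.of A)} {G P : X.Modules} (hP : PicF.IsInvertible P)
    (h : FlatMod.IsFlatOver f G) : FlatMod.IsFlatOver f (CohB1.tensorMod G P) := by
  intro x
  letI : Algebra ((Spec (CommRingCat.of A)).presheaf.stalk (f x)) (X.presheaf.stalk x) := (f.stalkMap x).hom.toAlgebra
  obtain ⟨U, g, hxU, hg⟩ := TwistLib.exists_genOn hP x
  let ε : stk G x ≃ₗ[X.presheaf.stalk x] stk (tens P G) x :=
    LinearEquiv.ofBijective _ (PnDualLib.bijective_ins P G x (ger P x hxU g) (hg.genAt hxU))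
  let ε' : stk (tens P G) x ≃ₗ[X.presheaf.stalk x] stk (tens G P) x :=
    ((DerSch.stalkFunctor X x).mapIso (KFlatLib.tensSwap G P)).toLinearEquiv
  let e := ε.trans ε'
  letI : Module ((Spec (CommRingCat.of A)).presheaf.stalk (f x)) (stk G x) := FlatMod.moduleStalkOver f G x
  letI : Module ((Spec (CommRingCat.of A)).presheaf.stalk (f x)) (stk (tens G P) x) :=
    FlatMod.moduleStalkOver f (CohB1.tensorMod G P) x
  haveI : Module.Flat ((Spec (CommRingCat.of A)).presheaf.stalk (f x)) (stk G x) := h x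
  let e' : stk (tens G P) x ≃ₗ[(Spec (CommRingCat.of A)).presheaf.stalk (f x)] stk G x :=
    { e.symm.toAddEquiv with map_smul' := fun c a => e.symm.map_smul ((f.stalkMap x).hom c) a }
  show Module.Flat ((Spec (CommRingCat.of A)).presheaf.stalk (f x)) (stk (tens G P) x)
  exact Module.Flat.of_linearEquiv e'

/-- Vanishing on a closed subscheme of projective space. -/
theorem exists_vanishing_closed {N : ℕ} (i : X ⟶ CohB1.ProjSpace N A) [IsClosedImmersion i]
    (f : X ⟶ Spec (CommRingCat.of A)) (hi : i ≫ CohB1.ProjSpace.toSpec N A = f) (G : X.Modules)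
    (hG : Coh.IsCoh G) (hflat : FlatMod.IsFlatOver f G) (n : ℕ) (hdepth : FibDepth f G n) :
    ∃ q₀ : ℕ, ∀ q : ℕ, q₀ ≤ q → ∀ j : ℕ, j ≤ n → Subsingleton (Coh.HH X
      (CohB1.tensorMod G ((Scheme.Modules.pullback i).obj (Twist.twistProjSpace N A (-(q : ℤ))))) j) := by
  subst hi
  haveI := isLocallyNoetherian_projSpace N A
  have hGc : Coh.IsCoh ((Coh.push i).obj G) := QCohLib.isCoh_push_finite i G hG
  by_cases hn : n < N
  · obtain ⟨q₀, hq⟩ := (van_of_pdlt N A (N - n - 1) (n + 1) (by omega) _ hGc fun y hy =>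
      pdlt_push i G hG hflat n (N - n - 1) (by omega) (fun s z hz => hdepth s z hz) y hy).out
    refine ⟨q₀, fun q hqq j hj => ?_⟩
    let T := Twist.twistProjSpace N A (-(q : ℤ))
    haveI : Coh.IsQCoh (CohB1.tensorMod G ((Scheme.Modules.pullback i).obj T)) :=
      (SerreVanLib.isCoh_tensor hG (AmpleDevLib.isInvertible_pb i (PicPnLib.twist_inv N A _))).1
    obtain ⟨e⟩ := QCohLib.nonempty_HH_push i (CohB1.tensorMod G ((Scheme.Modules.pullback i).obj T)) j
    rw [e.toEquiv.subsingleton_congr]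
    exact SerreVanLib.subsingleton_HH_of_iso
      ((Coh.push i).mapIso (HilbPolyLib.swapIso G ((Scheme.Modules.pullback i).obj T)) ≪≫
        ((ProjFormLib.projIso' i T (AmpleDevLib.isFinLocFree_of_isInvertible (PicPnLib.twist_inv N A _))).app G).symm)
      j (hq q hqq j (by omega))
  · refine ⟨0, fun q _ j hj => ?_⟩
    haveI := compactSpace_projSpace N A
    haveI := hGc.1
    have hz : IsZero G := (KFlatLib.isZero_iff_forall_stalk _).2 fun x => ModuleCat.isZero_iff_subsingleton.2 (by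
      have hclosed := QCohLib.isClosed_support ((Coh.push i).obj G) hGc.2
      have hempty : CohB1.support ((Coh.push i).obj G) = ∅ := by
        by_contra hne
        obtain ⟨y, hy, hyc⟩ := hclosed.exists_closed_singleton (Set.nonempty_iff_ne_empty.2 hne)
        exact hy (subsingleton_push i G hG hflat n (not_lt.1 hn) (fun s z hz => hdepth s z hz) y hyc)
      haveI : Subsingleton (((Coh.push i).obj G).presheaf.stalk (i x)) :=
        not_not.mp fun h => Set.notMem_empty (i x) (hempty ▸ h)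
      have hb := (DegPullLib.bijective_stalkPushforward i i.isClosedEmbedding.isClosedMap G x
        fun w hw => i.isClosedEmbedding.injective hw).2
      exact @Function.Surjective.subsingleton _ _ _ this hb)
    exact PnCohLib.subsingleton_HH_of_zero (IsZero.of_iso
      ((tF ((Scheme.Modules.pullback i).obj (Twist.twistProjSpace N A (-(q : ℤ))))).map_isZero hz)
      (HilbPolyLib.swapIso G _)) j

theorem nonempty_twist_inv_pow {N : ℕ} (i : X ⟶ CohB1.ProjSpace N A) {L M : X.Modules}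
    (hM : ClSub.IsInverseOf L M) {d : ℕ}
    (hd : CohB1.tensorPow L d ≅ (Scheme.Modules.pullback i).obj (Twist.twistProjSpace N A 1)) :
    ∀ q : ℕ, Nonempty (CohB1.tensorPow M (d * q) ≅
      (Scheme.Modules.pullback i).obj (Twist.twistProjSpace N A (-(q : ℤ)))) := by
  let o : ℤ → X.Modules := fun t => (Scheme.Modules.pullback i).obj (Twist.twistProjSpace N A t)
  have hadd : ∀ a b : ℤ, Nonempty (CohB1.tensorMod (o a) (o b) ≅ o (a + b)) := fun a b => by
    obtain ⟨e⟩ := PicPnLib.twist_add N A a b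
    haveI := KFlatLib.isIso_pullθ i (Twist.twistProjSpace N A a) (Twist.twistProjSpace N A b)
    exact ⟨(@asIso _ _ _ _ (KFlatLib.pullθ i (Twist.twistProjSpace N A a) (Twist.twistProjSpace N A b)) this).symm ≪≫
      (Scheme.Modules.pullback i).mapIso e⟩
  have h0 : Nonempty (o 0 ≅ Coh.structureModule X) := by
    obtain ⟨e⟩ := PicPnLib.twist_zero N A
    exact ⟨(Scheme.Modules.pullback i).mapIso e ≪≫ KFlatLib.pullUnitIso i⟩
  intro q
  induction q with
  | zero =>
    obtain ⟨e⟩ := h0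
    exact ⟨eqToIso (by rw [Nat.mul_zero]; rfl) ≪≫ e.symm ≪≫ eqToIso (by simp [o])⟩
  | succ q ih =>
    obtain ⟨φ⟩ := hM
    obtain ⟨e⟩ := ih
    obtain ⟨f⟩ := AmpleAffLib.nonempty_powInverse φ d
    obtain ⟨g⟩ := hadd 1 (-1)
    obtain ⟨g₀⟩ := h0
    obtain ⟨h₁⟩ := AmpleAffLib.nonempty_iso_of_inverse_unique ((HilbPolyLib.congrLeft hd _).symm ≪≫ f)
      (g ≪≫ eqToIso (by rw [add_neg_cancel]) ≪≫ g₀)
    obtain ⟨h₂⟩ := IntMultLib.nonempty_tensorPow_add M (d * q) d
    obtain ⟨h₃⟩ := hadd (-(q : ℤ)) (-1)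
    exact ⟨eqToIso (by rw [Nat.mul_succ]) ≪≫ h₂ ≪≫ HilbPolyLib.congrLeft e _ ≪≫
      HilbPolyLib.congrRight _ h₁ ≪≫ h₃ ≪≫ eqToIso (by simp only [o]; congr 2; push_cast; ring)⟩

variable (A) [X.Over (Spec (CommRingCat.of A))] [IsProper (X ↘ Spec (CommRingCat.of A))]

theorem exists_closedImm_pow {L : X.Modules} (hL : CohB1.IsAmple L) :
    ∃ (r d : ℕ) (i : X ⟶ CohB1.ProjSpace r A), 0 < d ∧ IsClosedImmersion i ∧
      i ≫ CohB1.ProjSpace.toSpec r A = (X ↘ Spec (CommRingCat.of A)) ∧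
      Nonempty (CohB1.tensorPow L d ≅ (Scheme.Modules.pullback i).obj (Twist.twistProjSpace r A 1)) := by
  obtain ⟨d, hd0, hd⟩ := Groth.Agent.S9710.result (X ↘ Spec (CommRingCat.of A)) L hL
  obtain ⟨r, i', hi', hiq, ⟨e⟩⟩ := hd d le_rfl
  obtain ⟨j, hj, hjd⟩ := PicPnLib.exists_square (n := r) (R := A) (𝟙 (Spec (CommRingCat.of A)))
  haveI : IsIso j := hj.isIso_fst_of_isIso
  haveI := hi'
  let i := i' ≫ inv j
  have hi : i ≫ CohB1.ProjSpace.toSpec r A = (X ↘ Spec (CommRingCat.of A)) := by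
    rw [← hiq]
    show (i' ≫ inv j) ≫ _ = _
    rw [Category.assoc]
    refine congrArg (i' ≫ ·) ?_
    rw [IsIso.inv_comp_eq]
    exact (hj.w.trans (Category.comp_id _)).symm
  haveI : IsProper (CohB1.ProjSpace.toSpec r A) := FormalCohLib.isProper_projToSpec r A
  haveI : IsProper (i ≫ CohB1.ProjSpace.toSpec r A) := by rw [hi]; infer_instance
  haveI : IsProper i := IsProper.of_comp i (CohB1.ProjSpace.toSpec r A)
  haveI : IsClosedImmersion i := IsClosedImmersion.of_isPreimmersion i i.isClosedMap.isClosed_range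
  obtain ⟨e₁⟩ := hjd 1
  refine ⟨r, d, i, hd0, inferInstance, hi, ⟨e ≪≫ (Scheme.Modules.pullbackCongr (show i' = i ≫ j by simp [i])).app _ ≪≫
    ((Scheme.Modules.pullbackComp i j).app _).symm ≪≫ (Scheme.Modules.pullback i).mapIso e₁⟩⟩

/-- `Hʲ(F ⊗ M^m) = 0` for `j ≤ n`, `m ≫ 0`, `M` inverse to an ample module. -/
theorem exists_vanishing {L M : X.Modules} (hL : CohB1.IsAmple L) (hM : ClSub.IsInverseOf L M)
    (F : X.Modules) (hF : Coh.IsCoh F) (hflat : FlatMod.IsFlatOver (X ↘ Spec (CommRingCat.of A)) F) (n : ℕ)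
    (hdepth : FibDepth (X ↘ Spec (CommRingCat.of A)) F n) :
    ∃ m₀ : ℕ, ∀ m : ℕ, m₀ ≤ m → ∀ j : ℕ, j ≤ n →
      Subsingleton (Coh.HH X (CohB1.tensorMod F (CohB1.tensorPow M m)) j) := by
  obtain ⟨r, d, i, hd0, hi, hiq, ⟨e⟩⟩ := exists_closedImm_pow A hL
  haveI := hi
  have hMi : PicF.IsInvertible M := CohCmpLib.isInvertible_of_inverse' hL.1 hM.some
  choose q₀ hq using fun a : ℕ =>
    exists_vanishing_closed i (X ↘ Spec (CommRingCat.of A)) hiq _
      (SerreVanLib.isCoh_tensor hF (AmpleThLib.tensorPow_isInvertible hMi a))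
      (isFlatOver_tensor (AmpleThLib.tensorPow_isInvertible hMi a) hflat) n
      (hdepth.tensor (AmpleThLib.tensorPow_isInvertible hMi a))
  obtain ⟨Q, hQ⟩ : ∃ Q, ∀ a, a < d → q₀ a ≤ Q :=
    ⟨(Finset.range d).sup q₀, fun a ha => Finset.le_sup (Finset.mem_range.2 ha)⟩
  refine ⟨d * (Q + 1), fun m hm j hj => ?_⟩
  obtain ⟨f⟩ := nonempty_twist_inv_pow i hM e (m / d)
  obtain ⟨g⟩ := IntMultLib.nonempty_tensorPow_add M (m % d) (d * (m / d))
  have hQm : Q ≤ m / d := by
    rw [Nat.le_div_iff_mul_le hd0]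
    exact le_trans (by rw [Nat.mul_comm]; exact Nat.mul_le_mul_left d (Nat.le_succ Q)) hm
  refine SerreVanLib.subsingleton_HH_of_iso ?_ j
    (hq (m % d) (m / d) ((hQ _ (Nat.mod_lt _ hd0)).trans hQm) j hj)
  exact (PnDualLib.nonempty_regroup F f g (by rw [Nat.mod_add_div])).some.symm

/-- A regular section stays regular in all powers of its ideal. -/
theorem mono_pow_tensor {𝓘 : X.IdealSheafData} (hI : BlowUp.IsEffCartierIdeal 𝓘) (F : X.Modules)
    (hreg : Mono ((DCoh.tensorBi.map (ClSub.idealModι 𝓘)).app F)) (b : ℕ) :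
    Mono ((DCoh.tensorBi.map (ClSub.idealModι (𝓘 ^ b))).app F) := by
  refine RpushLib.mono_of_stalks _ fun x => (ModuleCat.mono_iff_injective _).2 ?_
  obtain ⟨U, hxU, a, ha, hIU⟩ := hI x
  let one : stk (Coh.structureModule X) x := SurfExtLib.oneAt x
  have hone : Function.Bijective fun c : X.presheaf.stalk x => c • one :=
    ⟨SurfExtLib.smul_oneAt_injective x, SurfExtLib.exists_smul_oneAt x⟩
  let h1 := PnDualLib.bijective_ins (Coh.structureModule X) F x one hone
  let g := X.presheaf.germ U.1 x hxU a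
  have key : ∀ c : ℕ, ∃ t : stk F x → stk (tens (ClSub.idealMod (𝓘 ^ c)) F) x, Function.Bijective t ∧
      ∀ v, ((DerSch.stalkFunctor X x).map ((DCoh.tensorBi.map (ClSub.idealModι (𝓘 ^ c))).app F)).hom (t v) =
        PnDualLib.ins (Coh.structureModule X) F x one (g ^ c • v) := by
    intro c
    have hc : (𝓘 ^ c).ideal U = Ideal.span {a ^ c} := by
      rw [Scheme.IdealSheafData.ideal_pow, Pi.pow_apply, hIU, Ideal.span_singleton_pow]
    obtain ⟨σ, hσ⟩ := IntMultLib.exists_section (𝓘 ^ c) U (hc ▸ Ideal.mem_span_singleton_self (a ^ c))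
    have hgen := SurfNumLib.genOn_of_generator (𝓘 ^ c) U (pow_mem ha c) hc hσ
    refine ⟨PnDualLib.ins _ F x (ger _ x hxU σ), PnDualLib.bijective_ins _ F x _ (hgen.genAt hxU), fun v => ?_⟩
    obtain ⟨V, hxV, v, rfl⟩ := exists_ger F x v
    have hx : x ∈ U.1 ⊓ V := ⟨hxU, hxV⟩
    rw [← ger_res F (inf_le_right : U.1 ⊓ V ≤ V) x hx v,
      ← ger_res (ClSub.idealMod (𝓘 ^ c)) (inf_le_left : U.1 ⊓ V ≤ U.1) x hx σ, PnDualLib.ins_ger, ger_map,
      KFlatLib.tensorBi_map₁_shTm]
    refine (KFlatLib.stalkTensorLin_germ (Coh.structureModule X) F x hx _ _).symm.trans ?_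
    show PnDualLib.ins _ F x (ger (Coh.structureModule X) x hx _) _ = _
    rw [← ger_map, ger_res, ger_map, hσ]
    rw [show ger (Coh.structureModule X) x hxU (show Γ(Coh.structureModule X, U.1) from a ^ c) = g ^ c • one by
      rw [show g ^ c = X.presheaf.germ U.1 x hxU (a ^ c) from (map_pow _ _ _).symm]
      exact FLI.ger_smul_one x hxU (a ^ c)]
    exact congrArg (stalkTensorLin (Coh.structureModule X) F x) (TensorProduct.smul_tmul _ _ _)
  have inj_iff : ∀ c, Function.Injective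
      ((DerSch.stalkFunctor X x).map ((DCoh.tensorBi.map (ClSub.idealModι (𝓘 ^ c))).app F)).hom ↔
      Function.Injective fun v : stk F x => g ^ c • v := by
    intro c
    obtain ⟨t, ht, hv⟩ := key c
    rw [← Function.Injective.of_comp_iff' _ ht,
      ← h1.1.of_comp_iff (fun v : stk F x => g ^ c • v)]
    exact Iff.of_eq (congrArg _ (funext hv))
  refine (inj_iff b).2 ?_
  have hg : Function.Injective fun v : stk F x => g • v := by
    have := (inj_iff 1).1 (by
      rw [pow_one]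
      exact (ModuleCat.mono_iff_injective _).1
        (by haveI := hreg; exact inferInstance))
    simpa using this
  suffices ∀ (c : ℕ) (v w : stk F x), g ^ c • v = g ^ c • w → v = w from fun v w hvw => this b v w hvw
  intro c
  induction c with
  | zero => intro v w hvw; simpa using hvw
  | succ c ih =>
    intro v w hvw
    simp only [pow_succ, mul_smul] at hvw
    exact hg (ih _ _ hvw)

/-- **The map to the formal limit is bijective below the fibre depth.** -/
theorem bijective_formal_limit (𝓘 : X.IdealSheafData) {L : X.Modules}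
    (hL : ClSub.IsInverseOf L (ClSub.idealMod 𝓘)) (hamp : CohB1.IsAmple L)
    (F : X.Modules) (hF : Coh.IsCoh F) (hflat : FlatMod.IsFlatOver (X ↘ Spec (CommRingCat.of A)) F)
    (hreg : Mono ((DCoh.tensorBi.map (ClSub.idealModι 𝓘)).app F)) (n : ℕ)
    (hdepth : FibDepth (X ↘ Spec (CommRingCat.of A)) F n) (i : ℕ) :
    (i ≤ n → ∀ x : Coh.HH X ((DCoh.tensorBi.obj (Coh.structureModule X)).obj F) i,
      (∀ m : ℕ, Sheaf.H.map ((SheafOfModules.toSheaf X.ringCatSheaf).map
        ((DCoh.tensorBi.map (ClSub.toSubscheme (𝓘 ^ (m + 1)))).app F)) i x = 0) → x = 0) ∧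
    (i < n → ∀ y : (∀ m : ℕ, Coh.HH X ((DCoh.tensorBi.obj (ClSub.quotMod (𝓘 ^ (m + 1)))).obj F) i),
      (∀ m : ℕ, Sheaf.H.map ((SheafOfModules.toSheaf X.ringCatSheaf).map
        ((DCoh.tensorBi.map (Lef.quotMap (Lef.pow_succ_le 𝓘 m))).app F)) i (y (m + 1)) = y m) →
      ∃ x : Coh.HH X ((DCoh.tensorBi.obj (Coh.structureModule X)).obj F) i,
        ∀ m : ℕ, Sheaf.H.map ((SheafOfModules.toSheaf X.ringCatSheaf).map
          ((DCoh.tensorBi.map (ClSub.toSubscheme (𝓘 ^ (m + 1)))).app F)) i x = y m) := by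
  have hI : BlowUp.IsEffCartierIdeal 𝓘 := IntMultLib.isEffCartier_of_isInvertible 𝓘
    (CohCmpLib.isInvertible_of_inverse' hamp.1 hL.some)
  obtain ⟨m₀, hm₀⟩ := exists_vanishing A hamp hL F hF hflat n hdepth
  let Φ : X.Modules ⥤ X.Modules := (DCoh.tensorBi (X := X)).flip.obj F
  haveI : PreservesColimits (tF F) := (HomCohLib.homAdj F).leftAdjoint_preservesColimits
  haveI : PreservesColimits Φ := preservesColimits_of_natIso (NefCurveLib.swapNatIso F)
  have hseq : ∀ m : ℕ, ∃ S : ShortComplex X.Modules, ∃ h : S.X₂ = (DCoh.tensorBi.obj (Coh.structureModule X)).obj F,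
      S = (CurvLib.idealSeq (𝓘 ^ (m + 1))).map Φ ∧ S.ShortExact := fun m => by
    refine ⟨_, rfl, rfl, ?_⟩
    have hS := CurvLib.idealSeq_shortExact (𝓘 ^ (m + 1))
    haveI := hS.epi_g
    haveI : Mono ((CurvLib.idealSeq (𝓘 ^ (m + 1))).map Φ).f := mono_pow_tensor hI F hreg (m + 1)
    haveI : Epi ((CurvLib.idealSeq (𝓘 ^ (m + 1))).map Φ).g := inferInstanceAs (Epi (Φ.map _))
    exact ShortComplex.ShortExact.mk (hS.exact.map_of_epi_of_preservesCokernel Φ hS.epi_g inferInstance)
  have hv : ∀ m : ℕ, m₀ ≤ m → ∀ j : ℕ, j ≤ n →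
      Subsingleton (Coh.HH X ((DCoh.tensorBi.obj (ClSub.idealMod (𝓘 ^ (m + 1)))).obj F) j) := fun m hm j hj => by
    obtain ⟨-, ⟨e⟩⟩ := BlowPtLib.nonempty_idealMod_pow 𝓘 hI (m + 1)
    exact SerreVanLib.subsingleton_HH_of_iso (HilbPolyLib.congrLeft e.symm F ≪≫ HilbPolyLib.swapIso _ F) j
      (hm₀ (m + 1) (by omega) j hj)
  have hinj : ∀ m : ℕ, m₀ ≤ m → ∀ j : ℕ, j ≤ n → Function.Injective (Sheaf.H.map
      ((SheafOfModules.toSheaf X.ringCatSheaf).map ((DCoh.tensorBi.map (ClSub.toSubscheme (𝓘 ^ (m + 1)))).app F)) j) :=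
    fun m hm j hj => by
      obtain ⟨_, _, rfl, hS⟩ := hseq m
      exact LefFieldLib.injective_map_g hS (hv m hm j hj)
  refine ⟨fun hi x hx => hinj m₀ le_rfl i hi ((hx m₀).trans (map_zero _).symm), fun hi y hy => ?_⟩
  have hsur : Function.Surjective (Sheaf.H.map ((SheafOfModules.toSheaf X.ringCatSheaf).map
      ((DCoh.tensorBi.map (ClSub.toSubscheme (𝓘 ^ (m₀ + 1)))).app F)) i) := by
    obtain ⟨_, _, rfl, hS⟩ := hseq m₀
    exact LefFieldLib.surjective_map_g hS (hv m₀ le_rfl (i + 1) hi)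
  obtain ⟨x, hx⟩ := hsur (y m₀)
  have hcomp : ∀ (m : ℕ) (z : Coh.HH X ((DCoh.tensorBi.obj (Coh.structureModule X)).obj F) i),
      Sheaf.H.map ((SheafOfModules.toSheaf X.ringCatSheaf).map
        ((DCoh.tensorBi.map (Lef.quotMap (Lef.pow_succ_le 𝓘 m))).app F)) i
        (Sheaf.H.map ((SheafOfModules.toSheaf X.ringCatSheaf).map
          ((DCoh.tensorBi.map (ClSub.toSubscheme (𝓘 ^ (m + 2)))).app F)) i z) =
      Sheaf.H.map ((SheafOfModules.toSheaf X.ringCatSheaf).map
        ((DCoh.tensorBi.map (ClSub.toSubscheme (𝓘 ^ (m + 1)))).app F)) i z := fun m z => by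
    rw [← Sheaf.H.map_comp_apply, ← Functor.map_comp, ← NatTrans.comp_app, ← Functor.map_comp,
      LefAlgzLib.toSubscheme_quotMap]
  refine ⟨x, fun m => ?_⟩
  rcases le_total m m₀ with hm | hm
  · induction hm using Nat.decreasingInduction with
    | self => exact hx
    | of_succ k hk ih => rw [← hcomp k x, ih, hy k]
  · induction m, hm using Nat.le_induction with
    | base => exact hx
    | succ k hk ih =>
      obtain ⟨z, hz⟩ : ∃ z, Sheaf.H.map ((SheafOfModules.toSheaf X.ringCatSheaf).map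
          ((DCoh.tensorBi.map (ClSub.toSubscheme (𝓘 ^ (k + 1 + 1)))).app F)) i z = y (k + 1) := by
        obtain ⟨_, _, rfl, hS⟩ := hseq (k + 1)
        exact LefFieldLib.surjective_map_g hS (hv (k + 1) (by omega) (i + 1) hi) _
      obtain rfl : z = x := hinj k hk i hi.le (by rw [← hcomp k z, hz, hy k, ih])
      exact hz

end LefFlatLib
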