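import Groth.Agent.LefFlatLib.Pic
import Groth.Agent.LefFlatLib.Main
import Groth.Agent.PnDualLib.Embed
import Groth.Agent.RegAlgzLib.Push
import Groth.Agent.SurfExtLib.CBPoint

/-!
# Pic of an ample divisor over a field
-/

set_option autoImplicit false
set_option linter.unusedSectionVars false
set_option linter.style.haveILetI false
set_option maxHeartbeats 1000000
set_option backward.isDefEq.respectTransparency false
set_option backward.isDefEq.respectTransparency.types false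
universe u

open CategoryTheory CategoryTheory.Limits AlgebraicGeometry TopologicalSpace IsLocalRing
open CohCmpLib (stk)

noncomputable section

namespace LefFlatLib

variable (k : Type u) [Field k]

theorem nonempty_fiberStalk_field {X : Scheme.{u}} (f : X ⟶ Spec (CommRingCat.of k)) (x : X) :
    Nonempty (CInt.fiberStalk f x ≃+* X.presheaf.stalk x) := by
  obtain ⟨e⟩ := CMFlatLib.nonempty_fibre_equiv f x
  letI : Algebra k ((Spec (CommRingCat.of k)).presheaf.stalk (f x)) :=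
    (StructureSheaf.toStalk k (f x)).hom.toAlgebra
  haveI : IsLocalization.AtPrime ((Spec (CommRingCat.of k)).presheaf.stalk (f x)) (f x).asIdeal :=
    StructureSheaf.IsLocalization.to_stalk k (f x)
  have h0 : maximalIdeal ((Spec (CommRingCat.of k)).presheaf.stalk (f x)) = ⊥ := by
    refine (Submodule.eq_bot_iff _).2 fun z hz => ?_
    obtain ⟨⟨a, s⟩, h⟩ := IsLocalization.surj (f x).asIdeal.primeCompl z
    have hs := IsLocalization.map_units ((Spec (CommRingCat.of k)).presheaf.stalk (f x)) s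
    by_contra hz0
    refine hz ?_
    have ha : a ≠ 0 := fun ha => hz0 ((IsUnit.mul_left_eq_zero hs).1 (by rw [h, ha, map_zero]))
    exact isUnit_of_mul_isUnit_left (h ▸ (ha.isUnit.map _))
  refine ⟨e.trans ((Ideal.quotEquivOfEq ?_).trans (RingEquiv.quotientBot _))⟩
  rw [h0, Ideal.map_bot]

theorem le_depth_fiberStalk_iff {X : Scheme.{u}} [IsLocallyNoetherian X] (f : X ⟶ Spec (CommRingCat.of k)) (x : X)
    (d : ℕ) :
    (d : ℕ∞) ≤ LocCoh.depth (CInt.fiberStalk f x) (CInt.fiberStalk f x) ↔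
      (d : ℕ∞) ≤ LocCoh.depth (X.presheaf.stalk x) (X.presheaf.stalk x) := by
  obtain ⟨e⟩ := nonempty_fiberStalk_field k f x
  haveI : IsNoetherianRing (CInt.fiberStalk f x) := isNoetherianRing_of_ringEquiv (X.presheaf.stalk x) e.symm
  exact ⟨fun h => CMFlatLib.le_depth_congr e h, fun h => CMFlatLib.le_depth_congr e.symm h⟩

theorem isClosed_of_isClosed_asFiber {X : Scheme.{u}} (f : X ⟶ Spec (CommRingCat.of k)) (x : X)
    (h : IsClosed ({f.asFiber x} : Set (f.fiber (f x)))) : IsClosed ({x} : Set X) := by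
  have hr : Set.range (f.fiberι (f x)) = Set.univ := by
    rw [f.range_fiberι]
    exact Set.eq_univ_of_forall fun w => Subsingleton.elim (f w) (f x)
  rw [← closure_eq_iff_isClosed] at h ⊢
  refine Set.Subset.antisymm (fun w hw => ?_) subset_closure
  obtain ⟨w', rfl⟩ := hr.ge (Set.mem_univ w)
  have hc : w' ∈ closure ({f.asFiber x} : Set (f.fiber (f x))) := by
    rw [(f.fiberι _).isEmbedding.closure_eq_preimage_closure_image, Set.mem_preimage, Set.image_singleton,
      f.fiberι_asFiber]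
    exact hw
  rw [h, Set.mem_singleton_iff] at hc
  rw [hc, f.fiberι_asFiber]
  rfl

variable {X : Scheme.{u}} [X.Over (Spec (CommRingCat.of k))] [IsProper (X ↘ Spec (CommRingCat.of k))]

include k in
/-- Converse Serre vanishing on the divisor. -/
theorem two_le_depth_divisor (𝓘 : X.IdealSheafData) {L : X.Modules} (hL : ClSub.IsInverseOf L (ClSub.idealMod 𝓘))
    (hamp : CohB1.IsAmple L)
    (hdepth : ∀ x : X, IsClosed ({x} : Set X) → (2 : ℕ∞) ≤ LocCoh.depth (X.presheaf.stalk x) (X.presheaf.stalk x))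
    (hH : ∀ m : ℕ, 1 ≤ m → Subsingleton (Coh.HH X
      ((DCoh.tensorBi.obj (CohB1.tensorPow (ClSub.idealMod 𝓘) m)).obj (ClSub.quotMod 𝓘)) 1))
    (y : 𝓘.subscheme) (hy : IsClosed ({y} : Set 𝓘.subscheme)) :
    (2 : ℕ∞) ≤ LocCoh.depth (𝓘.subscheme.presheaf.stalk y) (𝓘.subscheme.presheaf.stalk y) := by
  haveI : IsNoetherian X := CurvLib.isNoetherian k (X := X)
  haveI : IsLocallyNoetherian 𝓘.subscheme := LocallyOfFiniteType.isLocallyNoetherian 𝓘.subschemeι
  let O := Coh.structureModule X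
  have hM : PicF.IsInvertible (ClSub.idealMod 𝓘) := CohCmpLib.isInvertible_of_inverse' hamp.1 hL.some
  let Q := ClSub.quotMod 𝓘
  have hQc : Coh.IsCoh Q := QCohLib.isCoh_push_finite 𝓘.subschemeι _ (DevissLib.isCoh_structureModule _)
  have hdO : ∀ x : X, IsClosed ({x} : Set X) → ((2 : ℕ) : ℕ∞) ≤
      LocCoh.depth (X.presheaf.stalk x) (O.presheaf.stalk x) := fun x hx => by
    obtain ⟨e⟩ := AVAmpleLib.nonempty_stalk_structureModule X x
    exact (hdepth x hx).trans_eq (CommAlgDim.depth_congr e)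
  obtain ⟨m₀, hm₀⟩ := PnDualLib.exists_vanishing_ample_neg k hamp hL O (DevissLib.isCoh_structureModule X) 2 hdO
  have hP : ∀ m : ℕ, m₀ ≤ m → ∀ j : ℕ, j < 2 → Subsingleton (Coh.HH X (CohB1.tensorPow (ClSub.idealMod 𝓘) m) j) :=
    fun m hm j hj => SerreVanLib.subsingleton_HH_of_iso (HilbPolyLib.unitLeft _).symm j (hm₀ m hm j hj)
  have hQ : ∀ m : ℕ, m₀ ≤ m → 1 ≤ m → ∀ j : ℕ, j < 2 →
      Subsingleton (Coh.HH X (CohB1.tensorMod Q (CohB1.tensorPow (ClSub.idealMod 𝓘) m)) j) := by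
    intro m hm hm1 j hj
    refine SerreVanLib.subsingleton_HH_of_iso (HilbPolyLib.swapIso Q _) j ?_
    rcases Nat.lt_or_ge j 1 with hj0 | hj1
    · obtain rfl : j = 0 := by omega
      have hS := HilbPolyLib.shortExact_tensor (AmpleThLib.tensorPow_isInvertible hM m)
        (CurvLib.idealSeq_shortExact 𝓘)
      exact subsingleton_X₃_of hS
        (SerreVanLib.subsingleton_HH_of_iso (HilbPolyLib.swapIso _ _ ≪≫ HilbPolyLib.unitLeft _) 0 (hP m hm 0 (by omega)))
        (hP (m + 1) (by omega) 1 (by omega))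
    · obtain rfl : j = 1 := by omega
      exact hH m hm1
  obtain ⟨r, d, i, hd0, hi, hif, ⟨e⟩⟩ := PnDualLib.exists_closedImm_pow k hamp
  haveI := hi
  have key := (PnDualLib.eventually_below_iff_depth k r _ (PnDualLib.isCoh_push' i hQc) 2).1
    ⟨(m₀ + 1 : ℕ), fun q hq j hj => (PnDualLib.subsingleton_twistBy_iff k r _ _ j).2
      ((PnDualLib.subsingleton_HH_iff i Q hQc _ j).1 (by
        obtain ⟨q', rfl⟩ : ∃ q' : ℕ, q = (q' : ℤ) := ⟨q.toNat, by omega⟩
        obtain ⟨g⟩ := PnDualLib.nonempty_inv_pow i hL e q'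
        have hle : q' ≤ d * q' := Nat.le_mul_of_pos_left q' hd0
        exact SerreVanLib.subsingleton_HH_of_iso (HilbPolyLib.congrRight Q g).symm j
          (hQ _ (by omega) (by omega) j hj)))⟩
  let x := 𝓘.subschemeι y
  have hx : IsClosed ({x} : Set X) := by
    simpa [x] using 𝓘.subschemeι.isClosedEmbedding.isClosedMap _ hy
  have hix : IsClosed ({i x} : Set (CohB1.ProjSpace r k)) := by
    simpa using i.isClosedEmbedding.isClosedMap _ hx
  have h1 := key (i x) hix
  rw [PnDualLib.depth_push i Q hQc x] at h1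
  obtain ⟨e'⟩ := AVAmpleLib.nonempty_stalk_structureModule 𝓘.subscheme y
  have h2 : LocCoh.depth (X.presheaf.stalk x) (Q.presheaf.stalk x) =
      LocCoh.depth (𝓘.subscheme.presheaf.stalk y) ((Coh.structureModule 𝓘.subscheme).presheaf.stalk y) :=
    RegAlgzLib.depth_push 𝓘.subschemeι (Coh.structureModule 𝓘.subscheme) (DevissLib.isCoh_structureModule _) y
  rw [h2, ← CommAlgDim.depth_congr e'] at h1
  exact_mod_cast h1

end LefFlatLib

namespace LefFlatLib

theorem iso_of_pic_injective {X Y : Scheme.{u}} (g : Y ⟶ X) (h : Formal2.PicPullbackInjective g)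
    {M M' : X.Modules} (hM : PicF.IsInvertible M) (hM' : PicF.IsInvertible M')
    (e : Nonempty ((Scheme.Modules.pullback g).obj M ≅ (Scheme.Modules.pullback g).obj M')) : Nonempty (M ≅ M') := by
  obtain ⟨e⟩ := e
  obtain ⟨v⟩ := MiscFlat6.nonempty_dualIso hM'
  let D := MiscFlat6.dual M'
  have hD : PicF.IsInvertible D :=
    CohCmpLib.isInvertible_of_inverse' hM' v
  haveI := KFlatLib.isIso_pullθ g M D
  haveI := KFlatLib.isIso_pullθ g M' D
  obtain ⟨f⟩ := h (CohB1.tensorMod M D) (HilbPolyLib.isInvertible_tensor hM hD)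
    ⟨(@asIso _ _ _ _ (KFlatLib.pullθ g M D) (KFlatLib.isIso_pullθ g M D)) ≪≫ HilbPolyLib.congrLeft e _ ≪≫
      (@asIso _ _ _ _ (KFlatLib.pullθ g M' D) (KFlatLib.isIso_pullθ g M' D)).symm ≪≫ (Scheme.Modules.pullback g).mapIso v ≪≫ KFlatLib.pullUnitIso g⟩
  obtain ⟨w⟩ := PicPnLib.nonempty_cancel f (HilbPolyLib.swapIso D M' ≪≫ v)
  exact ⟨w ≪≫ HilbPolyLib.unitLeft M'⟩

variable (k : Type u) [Field k] {X : Scheme.{u}} [X.Over (Spec (CommRingCat.of k))]
  [IsProper (X ↘ Spec (CommRingCat.of k))]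

include k in
/-- Pic of an ample divisor, given the effective Lefschetz condition. -/
theorem pic_divisor_field (𝓘 : X.IdealSheafData) {L : X.Modules}
    (hL : ClSub.IsInverseOf L (ClSub.idealMod 𝓘)) (hamp : CohB1.IsAmple L) (hLeff : LefX.LeffCond X 𝓘)
    (hdepth : ∀ x : X, IsClosed ({x} : Set X) → (2 : ℕ∞) ≤ LocCoh.depth (X.presheaf.stalk x) (X.presheaf.stalk x))
    (hH : ∀ m : ℕ, 1 ≤ m → ∀ i : ℕ, (i = 1 ∨ i = 2) → Subsingleton (Coh.HH X
      ((DCoh.tensorBi.obj (CohB1.tensorPow (ClSub.idealMod 𝓘) m)).obj (ClSub.quotMod 𝓘)) i))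
    (hpf : ∀ x : X, IsClosed ({x} : Set X) → x ∉ (𝓘.support : Set X) →
      ∀ N : (↑(FEt.puncturedSpec (X.presheaf.stalk x)) : Scheme.{u}).Modules, PicF.IsInvertible N →
        Nonempty (N ≅ Coh.structureModule _)) :
    (∀ M M' : X.Modules, PicF.IsInvertible M → PicF.IsInvertible M' →
        Nonempty ((Scheme.Modules.pullback 𝓘.subschemeι).obj M ≅ (Scheme.Modules.pullback 𝓘.subschemeι).obj M') →
        Nonempty (M ≅ M')) ∧
      ∀ N : (𝓘.subscheme).Modules, PicF.IsInvertible N →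
        ∃ M : X.Modules, PicF.IsInvertible M ∧ Nonempty ((Scheme.Modules.pullback 𝓘.subschemeι).obj M ≅ N) := by
  haveI : IsNoetherian X := CurvLib.isNoetherian k (X := X)
  have hI : BlowUp.IsEffCartierIdeal 𝓘 := IntMultLib.isEffCartier_of_isInvertible 𝓘
    (CohCmpLib.isInvertible_of_inverse' hamp.1 hL.some)
  have h3 : ∀ U : X.Opens, (𝓘.support : Set X) ⊆ (U : Set X) → ∀ x : X, x ∉ U →
      ParaF.IsParafactorialLocalRing (X.presheaf.stalk x) := fun U hU x hx => by
    have hc := isClosed_of_isClosed_asFiber k _ x ((Groth.Agent.S5195.result k X 𝓘 L hL hamp (U : Set X)ᶜ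
      U.isOpen.isClosed_compl (Set.disjoint_left.2 fun y hy hy' => hy (hU hy')) 0).1 x hx)
    exact (ParaFLib.isParafactorialLocalRing_iff _).2 ⟨(ParaFLib.h0_puncturedSpec_iff _).1
      ((ParaFLib.h0_iff_depth _).2 (hdepth x hc)), hpf x hc fun h => hx (hU h)⟩
  obtain ⟨hinj, hsurj⟩ := (Groth.Agent.S3356.result X 𝓘 0 hLeff
    (fun n _ i hi => kernel_vanishing 𝓘 hI n i (hH (n + 1) (by omega) i hi)) h3 0 le_rfl ⊤ (Set.subset_univ _)).2
  have key : ∀ J : X.IdealSheafData, J = 𝓘 → Formal2.PicPullbackInjective J.subschemeι →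
      Formal2.PicPullbackSurjective J.subschemeι →
      Formal2.PicPullbackInjective 𝓘.subschemeι ∧ Formal2.PicPullbackSurjective 𝓘.subschemeι := by
    rintro J rfl h1 h2
    exact ⟨h1, h2⟩
  obtain ⟨h1, h2⟩ := key (𝓘 ^ (0 + 1)) (by rw [zero_add, pow_one]) hinj hsurj
  exact ⟨fun M M' hM hM' e => iso_of_pic_injective _ h1 hM hM' e, h2⟩

end LefFlatLib
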