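import Groth.Agent.RatModLib.Gr
import Groth.Agent.LefAlgzLib.Hom

/-!
# The graded pieces of the completion along an effective Cartier divisor
-/

set_option autoImplicit false
set_option linter.unusedSectionVars false
set_option linter.style.haveILetI false
set_option maxHeartbeats 1000000
set_option backward.isDefEq.respectTransparency false
set_option backward.isDefEq.respectTransparency.types false
universe u

open CategoryTheory CategoryTheory.Limits AlgebraicGeometry TopologicalSpace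

noncomputable section

namespace LefFlatLib

variable {X : Scheme.{u}}

theorem exists_mul_seq {I J : X.IdealSheafData} (hJ : BlowUp.IsEffCartierIdeal J) (hI : BlowUp.IsEffCartierIdeal I) :
    ∃ (e₁ : CohB1.tensorMod (ClSub.idealMod J) (ClSub.idealMod I) ≅ ClSub.idealMod (J * I))
      (e₂ : CohB1.tensorMod (ClSub.idealMod J) (Coh.structureModule X) ≅ ClSub.idealMod J),
      ((CurvLib.idealSeq I).map (CurvLib.tensorLeft' (ClSub.idealMod J))).f ≫ e₂.hom ≫ ClSub.idealModι J =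
        e₁.hom ≫ ClSub.idealModι (J * I) := by
  obtain ⟨φ, hφ, hcov⟩ := SurfNumLib.exists_idealMod_mul hJ hI
  refine ⟨φ, HilbPolyLib.swapIso _ _ ≪≫ HilbPolyLib.unitLeft _, ?_⟩
  let ι' := (W : X.affineOpens) × {p : Γ(ClSub.idealMod J, W.1) × Γ(ClSub.idealMod I, W.1) × Γ(ClSub.idealMod (J * I), W.1) //
    AmpleLib.GenOn (ClSub.idealMod J) p.1 ∧ AmpleLib.GenOn (ClSub.idealMod I) p.2.1 ∧
      AmpleLib.GenOn (ClSub.idealMod (J * I)) p.2.2 ∧ SurfNumLib.val J p.1 * SurfNumLib.val I p.2.1 = SurfNumLib.val (J * I) p.2.2}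
  refine AmpleThLib.hom_ext_gens (fun a : ι' => a.1.1) (fun a : ι' => AmpleLib.shT a.2.1.1 a.2.1.2.1) hcov
    (fun a : ι' => AmpleThLib.shT_genOn a.2.2.1 a.2.2.2.1) fun a => ?_
  obtain ⟨W, ⟨⟨s, t, r⟩, hs, ht, hr, hc⟩⟩ := a
  have h1 := hφ ⟨W, ⟨(s, t, r), hs, ht, hr, hc⟩⟩
  dsimp only at hc h1 ⊢
  let u : Γ(X, W.1) := (ClSub.idealModι I).app W.1 t
  have e1 : ((CurvLib.idealSeq I).map (CurvLib.tensorLeft' (ClSub.idealMod J))).f.app W.1 (AmpleLib.shT s t) =
      AmpleLib.shT s (show Γ(Coh.structureModule X, W.1) from u) :=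
    KFlatLib.tensorBi_map₂_shTm (ClSub.idealMod J) (ClSub.idealModι I) s t
  have e2 : (HilbPolyLib.swapIso (ClSub.idealMod J) (Coh.structureModule X)).hom.app W.1
      (AmpleLib.shT s (show Γ(Coh.structureModule X, W.1) from u)) = AmpleLib.shT (show Γ(Coh.structureModule X, W.1) from u) s :=
    SurfExtLib.tensSwap_shTm (Coh.structureModule X) (ClSub.idealMod J) s _
  have e3 : (HilbPolyLib.unitLeft (ClSub.idealMod J)).hom.app W.1 (AmpleLib.shT (show Γ(Coh.structureModule X, W.1) from u) s) =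
      u • s := ExtShLib.unitLeft_shTm (ClSub.idealMod J) u s
  show (ClSub.idealModι J).app W.1 ((HilbPolyLib.unitLeft (ClSub.idealMod J)).hom.app W.1
    ((HilbPolyLib.swapIso (ClSub.idealMod J) (Coh.structureModule X)).hom.app W.1
      (((CurvLib.idealSeq I).map (CurvLib.tensorLeft' (ClSub.idealMod J))).f.app W.1 (AmpleLib.shT s t)))) =
    (ClSub.idealModι (J * I)).app W.1 (φ.hom.app W.1 (AmpleLib.shT s t))
  rw [e1, e2, e3, h1]
  refine (SurfNumLib.val_smul J u s).trans ?_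
  rw [mul_comm]
  exact hc

theorem nonempty_kernel_quotMap (I : X.IdealSheafData) (hI : BlowUp.IsEffCartierIdeal I) (J K : X.IdealSheafData)
    (hJ : BlowUp.IsEffCartierIdeal J) (hK : J * I = K) (hle : K ≤ J) :
    Nonempty (kernel (Lef.quotMap hle) ≅ CohB1.tensorMod (ClSub.idealMod J) (ClSub.quotMod I)) := by
  subst hK
  let S := (CurvLib.idealSeq I).map (CurvLib.tensorLeft' (ClSub.idealMod J))
  have hS : S.ShortExact :=
    HilbPolyLib.shortExact_tensor (IntMultLib.isInvertible_idealMod _ hJ) (CurvLib.idealSeq_shortExact I)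
  obtain ⟨e₁, e₂, he⟩ := exists_mul_seq hJ hI
  haveI := hS.epi_g
  haveI : Mono (ClSub.idealModι J) := (CurvLib.idealSeq_shortExact J).mono_f
  let φ : S.X₂ ⟶ ClSub.quotMod (J * I) := e₂.hom ≫ ClSub.idealModι J ≫ ClSub.toSubscheme (J * I)
  have hφ : S.f ≫ φ = 0 := by
    show S.f ≫ e₂.hom ≫ ClSub.idealModι J ≫ ClSub.toSubscheme (J * I) = 0
    rw [← Category.assoc e₂.hom, ← Category.assoc, show S.f ≫ e₂.hom ≫ ClSub.idealModι J = _ from he, Category.assoc,
      show ClSub.idealModι (J * I) ≫ ClSub.toSubscheme (J * I) = 0 from kernel.condition _, comp_zero]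
  let ψ := hS.exact.desc φ hφ
  have hψ : S.g ≫ ψ = φ := hS.exact.g_desc φ hφ
  have hψ0 : ψ ≫ Lef.quotMap hle = 0 := by
    rw [← cancel_epi S.g, ← Category.assoc, hψ, comp_zero]
    show (e₂.hom ≫ ClSub.idealModι J ≫ ClSub.toSubscheme (J * I)) ≫ Lef.quotMap hle = 0
    rw [Category.assoc, Category.assoc, LefAlgzLib.toSubscheme_quotMap,
      show ClSub.idealModι J ≫ ClSub.toSubscheme J = 0 from kernel.condition _, comp_zero]
  haveI hmono : Mono ψ := Preadditive.mono_of_cancel_zero _ fun {T} z hz => by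
    obtain ⟨T', π, hπ, z', hz'⟩ := surjective_up_to_refinements_of_epi S.g z
    have h0 : (z' ≫ e₂.hom ≫ ClSub.idealModι J) ≫ ClSub.toSubscheme (J * I) = 0 := by
      calc (z' ≫ e₂.hom ≫ ClSub.idealModι J) ≫ ClSub.toSubscheme (J * I)
          = (z' ≫ S.g) ≫ ψ := by rw [Category.assoc z' S.g, hψ]; simp [φ]
        _ = 0 := by rw [← hz', Category.assoc, hz, comp_zero]
    have hl : kernel.lift (ClSub.toSubscheme (J * I)) (z' ≫ e₂.hom ≫ ClSub.idealModι J) h0 ≫
        ClSub.idealModι (J * I) = z' ≫ e₂.hom ≫ ClSub.idealModι J := kernel.lift_ι _ _ _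
    have hz2 : z' = (kernel.lift (ClSub.toSubscheme (J * I)) (z' ≫ e₂.hom ≫ ClSub.idealModι J) h0 ≫ e₁.inv) ≫ S.f := by
      rw [← cancel_mono (e₂.hom ≫ ClSub.idealModι J), Category.assoc, Category.assoc,
        show S.f ≫ e₂.hom ≫ ClSub.idealModι J = _ from he, Iso.inv_hom_id_assoc]
      exact hl.symm
    rw [← cancel_epi π, comp_zero, hz', hz2, Category.assoc, S.zero, comp_zero]
  let χ : S.X₃ ⟶ kernel (Lef.quotMap hle) := kernel.lift _ ψ hψ0
  haveI : Mono χ := by
    haveI : Mono (χ ≫ kernel.ι _) := by rw [kernel.lift_ι]; exact hmono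
    exact mono_of_mono χ (kernel.ι _)
  haveI : Epi χ := by
    rw [epi_iff_surjective_up_to_refinements]
    intro T z
    haveI : Epi (ClSub.toSubscheme (J * I)) := CurvLib.epi_toSubscheme (J * I)
    obtain ⟨T', π, hπ, y, hy⟩ := surjective_up_to_refinements_of_epi (ClSub.toSubscheme (J * I)) (z ≫ kernel.ι _)
    have h0 : y ≫ ClSub.toSubscheme J = 0 := by
      rw [← LefAlgzLib.toSubscheme_quotMap hle, ← Category.assoc, ← hy, Category.assoc, Category.assoc,
        kernel.condition, comp_zero, comp_zero]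
    have hw : kernel.lift (ClSub.toSubscheme J) y h0 ≫ ClSub.idealModι J = y := kernel.lift_ι _ _ _
    refine ⟨T', π, hπ, (kernel.lift (ClSub.toSubscheme J) y h0 ≫ e₂.inv) ≫ S.g, ?_⟩
    rw [← cancel_mono (kernel.ι (Lef.quotMap hle)), Category.assoc, hy, Category.assoc _ χ, kernel.lift_ι,
      Category.assoc _ S.g, hψ]
    show y ≫ _ = (kernel.lift (ClSub.toSubscheme J) y h0 ≫ e₂.inv) ≫ e₂.hom ≫ _
    rw [Category.assoc, Iso.inv_hom_id_assoc, ← Category.assoc, hw]
  haveI := isIso_of_mono_of_epi χ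
  exact ⟨(asIso χ).symm⟩

theorem nonempty_gr_iso (I : X.IdealSheafData) (hI : BlowUp.IsEffCartierIdeal I) (n : ℕ) :
    Nonempty (kernel (Lef.quotMap (Lef.pow_succ_le I n)) ≅
      CohB1.tensorMod (CohB1.tensorPow (ClSub.idealMod I) (n + 1)) (ClSub.quotMod I)) := by
  obtain ⟨hJ, ⟨p⟩⟩ := BlowPtLib.nonempty_idealMod_pow I hI (n + 1)
  obtain ⟨e⟩ := nonempty_kernel_quotMap I hI (I ^ (n + 1)) (I ^ (n + 2)) hJ (pow_succ I (n + 1)).symm
    (Lef.pow_succ_le I n)
  exact ⟨e ≪≫ (HilbPolyLib.congrLeft p (ClSub.quotMod I)).symm⟩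

end LefFlatLib
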