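import Groth.Agent.LefFlatLib.Unit
import Groth.Agent.ProjLefLib.Cover
import Groth.Agent.S5195

/-!
# The Lefschetz condition for fibre depth two
-/

set_option autoImplicit false
set_option linter.unusedSectionVars false
set_option linter.style.haveILetI false
set_option maxHeartbeats 1000000
set_option backward.isDefEq.respectTransparency false
set_option backward.isDefEq.respectTransparency.types false
universe u

open CategoryTheory CategoryTheory.Limits AlgebraicGeometry TopologicalSpace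

noncomputable section

namespace LefFlatLib

theorem negVanish_fibre (A : Type u) [CommRing A] [IsNoetherianRing A] {X : Scheme.{u}}
    [X.Over (Spec (CommRingCat.of A))] [IsProper (X ↘ Spec (CommRingCat.of A))]
    [Flat (X ↘ Spec (CommRingCat.of A))] (𝓘 : X.IdealSheafData) {L : X.Modules}
    (hL : ClSub.IsInverseOf L (ClSub.idealMod 𝓘)) (hamp : CohB1.IsAmple L)
    (hdepth : FibDepth (X ↘ Spec (CommRingCat.of A)) (Coh.structureModule X) 1) :
    ProjLefLib.NegVanish 𝓘 := by
  intro C hC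
  have hI : BlowUp.IsEffCartierIdeal 𝓘 := IntMultLib.isEffCartier_of_isInvertible 𝓘
    (CohCmpLib.isInvertible_of_inverse' hamp.1 hL.some)
  obtain ⟨m₀, hm₀⟩ := exists_vanishing A hamp hL (CohB1.tensorMod (Coh.structureModule X) C)
    (SerreVanLib.isCoh_tensor (DevissLib.isCoh_structureModule X) hC)
    (isFlatOver_tensor hC (PerfBaseLib.isFlatOver_unit _)) 1 (hdepth.tensor hC)
  refine ⟨m₀, fun n hn j hj => ?_⟩
  obtain ⟨-, ⟨e⟩⟩ := BlowPtLib.nonempty_idealMod_pow 𝓘 hI (n + 1)
  refine SerreVanLib.subsingleton_HH_of_iso ?_ j (hm₀ (n + 1) (by omega) j (by omega))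
  exact (HilbPolyLib.swapIso _ C ≪≫ HilbPolyLib.congrRight C e.symm ≪≫
    HilbPolyLib.congrLeft (HilbPolyLib.unitLeft C).symm _)

theorem lefCond_fibre (A : Type u) [CommRing A] [IsNoetherianRing A] {X : Scheme.{u}}
    [X.Over (Spec (CommRingCat.of A))] [IsProper (X ↘ Spec (CommRingCat.of A))]
    [Flat (X ↘ Spec (CommRingCat.of A))] (𝓘 : X.IdealSheafData) {L : X.Modules}
    (hL : ClSub.IsInverseOf L (ClSub.idealMod 𝓘)) (hamp : CohB1.IsAmple L)
    (hd : ∀ x : X, IsClosed ({((X ↘ Spec (CommRingCat.of A))).asFiber x} :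
        Set ↥(((X ↘ Spec (CommRingCat.of A))).fiber (((X ↘ Spec (CommRingCat.of A))) x))) →
      (2 : ℕ∞) ≤ LocCoh.depth ↑(CInt.fiberStalk (X ↘ Spec (CommRingCat.of A)) x)
        ↑(CInt.fiberStalk (X ↘ Spec (CommRingCat.of A)) x)) : Lef.LefCond X 𝓘 := by
  haveI : IsLocallyNoetherian X := LocallyOfFiniteType.isLocallyNoetherian (X ↘ Spec (CommRingCat.of A))
  haveI : CompactSpace X := QuasiCompact.compactSpace_of_compactSpace (X ↘ Spec (CommRingCat.of A))
  haveI : IsNoetherian X := ⟨⟩
  have h1 : FibDepth (X ↘ Spec (CommRingCat.of A)) (Coh.structureModule X) 1 :=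
    fibDepth_structure _ 1 fun x hx => lt_of_lt_of_le (by norm_num) (hd x hx)
  refine ProjLefLib.lefCond_of_negVanish (negVanish_fibre A 𝓘 hL hamp h1) hamp fun U hU x hx => ?_
  exact (Groth.Agent.S5195.result A X 𝓘 L hL hamp (U : Set X)ᶜ U.isOpen.isClosed_compl
    (Set.disjoint_left.2 fun y hy hy' => hy (hU hy')) 2).2 inferInstance (fun z hz => by exact_mod_cast hd z hz) x hx

end LefFlatLib
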