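import Groth.Agent.S5195
import Groth.Agent.S0320
import Groth.Agent.S14435
import Groth.Agent.CMFlatLib.FibreDepth
import Groth.Agent.HilbPtsLib.DivDeg
import Groth.Agent.IntMultLib.Cartier
import Groth.Agent.GrDepthPicLib.Sheaf
import Groth.Agent.ParaFLib.FlatDescent

/-!
# Depth and parafactoriality from the fibres along a relative effective divisor
-/

set_option autoImplicit false
set_option linter.unusedSectionVars false
set_option linter.style.haveILetI false
set_option maxHeartbeats 1000000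
set_option backward.isDefEq.respectTransparency false
set_option backward.isDefEq.respectTransparency.types false
universe u

open CategoryTheory CategoryTheory.Limits AlgebraicGeometry TopologicalSpace IsLocalRing
open scoped TensorProduct Pointwise

noncomputable section

namespace LefFlatLib

theorem fib_regular {R B : Type u} [CommRing R] [IsLocalRing R] [CommRing B] [Algebra R B] {C : Type u} [CommRing C]
    [Algebra R C] [Algebra B C] [IsScalarTower R B C] [Module.Flat R C]
    (hs : Function.Surjective (algebraMap B C)) (t : B) (ht : RingHom.ker (algebraMap B C) = Ideal.span {t})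
    (hreg : IsSMulRegular B t) :
    IsSMulRegular (GorLib.Fib R B) (Ideal.Quotient.mk ((maximalIdeal R).map (algebraMap R B)) t) := by
  let 𝔞 := (maximalIdeal R).map (algebraMap R B)
  let f : B →ₗ[R] B := (LinearMap.mulLeft R t)
  have hf : Function.Injective f := fun a b hab => hreg hab
  let g : B →ₗ[R] C := (IsScalarTower.toAlgHom R B C).toLinearMap
  have hfg : Function.Exact f g := fun b => by
    show algebraMap B C b = 0 ↔ b ∈ Set.range fun a => t * a
    rw [← RingHom.mem_ker, ht, Ideal.mem_span_singleton]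
    exact ⟨fun ⟨c, hc⟩ => ⟨c, hc.symm⟩, fun ⟨c, hc⟩ => ⟨c, hc.symm⟩⟩
  have hT : Function.Injective (f.lTensor (R ⧸ maximalIdeal R)) :=
    LinearMap.lTensor_injective_of_exact_of_flat g hs f hf hfg _
  let q := TensorProduct.quotTensorEquivQuotSMul B (maximalIdeal R)
  have hmem : ∀ b : B, b ∈ (maximalIdeal R • ⊤ : Submodule R B) ↔ b ∈ 𝔞 := fun b => by
    rw [Ideal.smul_top_eq_map]; rfl
  have key : ∀ w : GorLib.Fib R B, Ideal.Quotient.mk 𝔞 t * w = 0 → w = 0 := fun w hw => by
    obtain ⟨b, rfl⟩ := Ideal.Quotient.mk_surjective w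
    have h1 : t * b ∈ 𝔞 := Ideal.Quotient.eq_zero_iff_mem.1 (by rw [map_mul]; exact hw)
    have h2 : f.lTensor (R ⧸ maximalIdeal R) (q.symm (Submodule.Quotient.mk b)) =
        q.symm (Submodule.Quotient.mk (t * b)) := by
      rw [TensorProduct.quotTensorEquivQuotSMul_symm_mk, TensorProduct.quotTensorEquivQuotSMul_symm_mk]
      rfl
    rw [(Submodule.Quotient.mk_eq_zero _).2 ((hmem _).2 h1), map_zero] at h2
    have h3 := hT (h2.trans (map_zero _).symm)
    rw [LinearEquiv.map_eq_zero_iff, Submodule.Quotient.mk_eq_zero] at h3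
    exact Ideal.Quotient.eq_zero_iff_mem.2 ((hmem _).1 h3)
  intro v w hvw
  refine sub_eq_zero.1 (key _ ?_)
  rw [mul_sub]
  exact sub_eq_zero.2 hvw

theorem depth_quot_span {F : Type u} [CommRing F] [IsLocalRing F] [IsNoetherianRing F] (τ : F)
    (hτm : τ ∈ maximalIdeal F) (hτ : IsSMulRegular F τ) [IsLocalRing (F ⧸ Ideal.span {τ})] :
    LocCoh.depth (F ⧸ Ideal.span {τ}) (F ⧸ Ideal.span {τ}) + 1 = LocCoh.depth F F := by
  let Q := F ⧸ Ideal.span {τ}
  haveI : IsLocalHom (algebraMap F Q) := Function.Surjective.isLocalHom _ Ideal.Quotient.mk_surjective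
  have hmax : (maximalIdeal F).map (algebraMap F Q) = maximalIdeal Q := by
    rcases Ideal.map_eq_top_or_isMaximal_of_surjective (algebraMap F Q) Ideal.Quotient.mk_surjective
      (inferInstance : (maximalIdeal F).IsMaximal) with h' | h'
    · exact absurd (top_le_iff.1 (h'.ge.trans (((IsLocalRing.local_hom_TFAE (algebraMap F Q)).out 0 2).1 ‹_›)))
        (maximalIdeal.isMaximal Q).ne_top
    · exact eq_maximalIdeal h'
  have hne : maximalIdeal F • (⊤ : Submodule F F) ≠ ⊤ := by
    rw [smul_eq_mul, Ideal.mul_top]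
    exact (maximalIdeal.isMaximal F).ne_top
  have hsub : τ • (⊤ : Submodule F F) = Ideal.span {τ} := by
    ext w
    rw [Submodule.mem_smul_pointwise_iff_exists, Ideal.mem_span_singleton]
    exact ⟨fun ⟨c, _, hc⟩ => ⟨c, hc.symm⟩, fun ⟨c, hc⟩ => ⟨c, trivial, hc.symm⟩⟩
  have h1 : LocCoh.idealDepth (maximalIdeal F) (QuotSMulTop τ F) = LocCoh.idealDepth (maximalIdeal F) Q :=
    CommAlgDim.idealDepth_congr (maximalIdeal F) (Submodule.quotEquivOfEq _ _ hsub)
  show LocCoh.idealDepth (maximalIdeal Q) Q + 1 = _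
  rw [← hmax, ← Groth.Agent.S14435.result (A := F) (B := Q) (maximalIdeal F) le_rfl Q, ← h1]
  exact Groth.Agent.S0320.result F (maximalIdeal F) F hne τ hτm hτ

/-- Cutting the closed fibre by a relative regular element lowers its depth by one. -/
theorem two_le_depth_fib_quot {R B : Type u} [CommRing R] [IsLocalRing R] [CommRing B]
    [IsLocalRing B] [IsNoetherianRing B] [Algebra R B] {C : Type u} [CommRing C]
    [IsLocalRing C] [IsNoetherianRing C] [Algebra R C] [Algebra B C] [IsScalarTower R B C] [Module.Flat R C]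
    [IsLocalRing (GorLib.Fib R B)] [IsLocalRing (GorLib.Fib R C)]
    (hs : Function.Surjective (algebraMap B C)) (t : B) (ht : RingHom.ker (algebraMap B C) = Ideal.span {t})
    (hreg : IsSMulRegular B t)
    (h : (3 : ℕ∞) ≤ LocCoh.depth (GorLib.Fib R B) (GorLib.Fib R B)) :
    (2 : ℕ∞) ≤ LocCoh.depth (GorLib.Fib R C) (GorLib.Fib R C) := by
  let 𝔞 := (maximalIdeal R).map (algebraMap R B)
  haveI : IsLocalHom (algebraMap B C) := Function.Surjective.isLocalHom _ hs
  have htm : t ∈ maximalIdeal B := fun hu => by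
    have h0 : t ∈ RingHom.ker (algebraMap B C) := ht ▸ Ideal.mem_span_singleton_self t
    rw [RingHom.mem_ker] at h0
    exact not_isUnit_zero (h0 ▸ hu.map (algebraMap B C))
  let F := GorLib.Fib R B
  let τ : F := Ideal.Quotient.mk 𝔞 t
  haveI : IsLocalHom (Ideal.Quotient.mk 𝔞) := Function.Surjective.isLocalHom _ Ideal.Quotient.mk_surjective
  have hτm : τ ∈ maximalIdeal F := fun hu => htm (isUnit_of_map_unit (Ideal.Quotient.mk 𝔞) t hu)
  haveI : IsNoetherianRing F := Ideal.Quotient.isNoetherianRing _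
  let Q := F ⧸ Ideal.span {τ}
  haveI : Nontrivial Q := Ideal.Quotient.nontrivial_iff.2 fun h0 =>
    (maximalIdeal.isMaximal F).ne_top (top_le_iff.1 (h0 ▸ (Ideal.span_le.2 (Set.singleton_subset_iff.2 hτm))))
  haveI : IsLocalRing Q := IsLocalRing.of_surjective' (Ideal.Quotient.mk _) Ideal.Quotient.mk_surjective
  have hd := depth_quot_span τ hτm (fib_regular hs t ht hreg)
  have hQ : ((2 : ℕ) : ℕ∞) ≤ LocCoh.depth Q Q := by
    refine WithTop.le_of_add_le_add_right ENat.one_ne_top ?_
    rw [hd]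
    exact le_trans (by norm_num) h
  let e : Q ≃+* GorLib.Fib R C :=
    ((Ideal.quotEquivOfEq (by rw [Ideal.map_span, Set.image_singleton])).trans
      (DoubleQuot.quotQuotEquivComm 𝔞 (Ideal.span {t}))).trans
      (Ideal.quotientEquiv _ _ ((Ideal.quotEquivOfEq ht.symm).trans (RingHom.quotientKerEquivOfSurjective hs)) (by
        rw [Ideal.map_map, IsScalarTower.algebraMap_eq R B C, ← Ideal.map_map]
        congr 1))
  exact CMFlatLib.le_depth_congr e hQ


variable {X S : Scheme.{u}}

theorem isClosed_asFiber_image {Y : Scheme.{u}} (ι : Y ⟶ X) [IsClosedImmersion ι] (f : X ⟶ S) (y : Y)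
    (h : IsClosed ({(ι ≫ f).asFiber y} : Set ((ι ≫ f).fiber ((ι ≫ f) y)))) :
    IsClosed ({f.asFiber (ι y)} : Set (f.fiber (f (ι y)))) := by
  rw [← closure_eq_iff_isClosed] at h ⊢
  refine Set.Subset.antisymm (fun z hz => ?_) subset_closure
  rw [(f.fiberι _).isEmbedding.closure_eq_preimage_closure_image, Set.mem_preimage, Set.image_singleton,
    f.fiberι_asFiber, ← Set.image_singleton (f := ⇑ι) (a := y), ι.isClosedEmbedding.closure_image_eq] at hz
  obtain ⟨w, hw, hwz⟩ := hz
  have hfw : (ι ≫ f) w = (ι ≫ f) y := by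
    show f (ι w) = f (ι y)
    rw [hwz]
    have h1 : f.fiberι (f (ι y)) z ∈ f ⁻¹' {f (ι y)} := by rw [← f.range_fiberι]; exact ⟨z, rfl⟩
    exact h1
  obtain ⟨w', hw'⟩ : w ∈ Set.range ((ι ≫ f).fiberι ((ι ≫ f) y)) := by
    rw [(ι ≫ f).range_fiberι]; exact hfw
  have hc : w' ∈ closure ({(ι ≫ f).asFiber y} : Set ((ι ≫ f).fiber ((ι ≫ f) y))) := by
    rw [((ι ≫ f).fiberι _).isEmbedding.closure_eq_preimage_closure_image, Set.mem_preimage, Set.image_singleton,
      (ι ≫ f).fiberι_asFiber, hw']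
    exact hw
  rw [h, Set.mem_singleton_iff] at hc
  have hwy : w = y := by rw [← hw', hc, (ι ≫ f).fiberι_asFiber]
  refine (f.fiberι _).isEmbedding.injective ?_
  rw [f.fiberι_asFiber, ← hwz, hwy]

/-- The fibres of a flat divisor in a flat family have depth one less. -/
theorem two_le_depth_fiberStalk_zero [IsLocallyNoetherian X] [IsLocallyNoetherian S] (f : X ⟶ S) [Flat f]
    (𝓘 : X.IdealSheafData) (hI : BlowUp.IsEffCartierIdeal 𝓘) [Flat (𝓘.subschemeι ≫ f)] (y : 𝓘.subscheme)
    (h : (3 : ℕ∞) ≤ LocCoh.depth ↑(CInt.fiberStalk f (𝓘.subschemeι y)) ↑(CInt.fiberStalk f (𝓘.subschemeι y))) :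
    (2 : ℕ∞) ≤ LocCoh.depth ↑(CInt.fiberStalk (𝓘.subschemeι ≫ f) y) ↑(CInt.fiberStalk (𝓘.subschemeι ≫ f) y) := by
  let x := 𝓘.subschemeι y
  haveI : IsLocallyNoetherian 𝓘.subscheme := LocallyOfFiniteType.isLocallyNoetherian 𝓘.subschemeι
  letI : Algebra (S.presheaf.stalk (f x)) (X.presheaf.stalk x) := (f.stalkMap x).hom.toAlgebra
  letI : Algebra (X.presheaf.stalk x) (𝓘.subscheme.presheaf.stalk y) := (𝓘.subschemeι.stalkMap y).hom.toAlgebra
  letI : Algebra (S.presheaf.stalk (f x)) (𝓘.subscheme.presheaf.stalk y) :=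
    ((𝓘.subschemeι ≫ f).stalkMap y).hom.toAlgebra
  haveI : IsScalarTower (S.presheaf.stalk (f x)) (X.presheaf.stalk x) (𝓘.subscheme.presheaf.stalk y) :=
    IsScalarTower.of_algebraMap_eq fun r => by
      show ((𝓘.subschemeι ≫ f).stalkMap y).hom r = (𝓘.subschemeι.stalkMap y).hom ((f.stalkMap x).hom r)
      rw [Scheme.Hom.stalkMap_comp]
      rfl
  haveI : Module.Flat (S.presheaf.stalk (f x)) (𝓘.subscheme.presheaf.stalk y) :=
    Flat.stalkMap (𝓘.subschemeι ≫ f) y
  haveI : IsLocalHom (algebraMap (S.presheaf.stalk (f x)) (X.presheaf.stalk x)) :=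
    inferInstanceAs (IsLocalHom (f.stalkMap x).hom)
  haveI : IsLocalHom (algebraMap (S.presheaf.stalk (f x)) (𝓘.subscheme.presheaf.stalk y)) :=
    inferInstanceAs (IsLocalHom ((𝓘.subschemeι ≫ f).stalkMap y).hom)
  haveI : IsLocalHom (algebraMap (X.presheaf.stalk x) (𝓘.subscheme.presheaf.stalk y)) :=
    inferInstanceAs (IsLocalHom (𝓘.subschemeι.stalkMap y).hom)
  haveI : IsLocalRing (GorLib.Fib (S.presheaf.stalk (f x)) (X.presheaf.stalk x)) :=
    GorLib.isLocalRing_quotient (GorLib.map_maximalIdeal_ne_top _ _)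
  haveI : IsLocalRing (GorLib.Fib (S.presheaf.stalk (f x)) (𝓘.subscheme.presheaf.stalk y)) :=
    GorLib.isLocalRing_quotient (GorLib.map_maximalIdeal_ne_top _ _)
  obtain ⟨U, hxU, a, ha, hIU⟩ := hI x
  have hker : RingHom.ker (algebraMap (X.presheaf.stalk x) (𝓘.subscheme.presheaf.stalk y)) =
      Ideal.span {X.presheaf.germ U.1 x hxU a} := by
    show RingHom.ker (𝓘.subschemeι.stalkMap y).hom = _
    rw [HilbPts.SC.ker_stalkMap_subschemeι, SDivLib.stalkIdeal_eq _ U hxU, hIU, Ideal.map_span, Set.image_singleton]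
  have hreg : IsSMulRegular (X.presheaf.stalk x) (X.presheaf.germ U.1 x hxU a) := by
    haveI := U.2.isLocalization_stalk ⟨x, hxU⟩
    letI := TopCat.Presheaf.algebra_section_stalk X.presheaf ⟨x, hxU⟩
    haveI := IsLocalization.flat (X.presheaf.stalk x) (U.2.primeIdealOf ⟨x, hxU⟩).asIdeal.primeCompl
    exact IsSMulRegular.of_flat (S := X.presheaf.stalk x) (fun b c hbc => sub_eq_zero.1 (ha.1 _ (by
      rw [mul_sub]; exact sub_eq_zero.2 hbc)))
  obtain ⟨e⟩ := CMFlatLib.nonempty_fibre_equiv f x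
  obtain ⟨e'⟩ := CMFlatLib.nonempty_fibre_equiv (𝓘.subschemeι ≫ f) y
  haveI : IsNoetherianRing (GorLib.Fib (S.presheaf.stalk (f x)) (X.presheaf.stalk x)) :=
    Ideal.Quotient.isNoetherianRing _
  haveI : IsNoetherianRing (CInt.fiberStalk (𝓘.subschemeι ≫ f) y) := isNoetherianRing_of_ringEquiv _ e'.symm
  exact CMFlatLib.le_depth_congr e'.symm (d := 2) (two_le_depth_fib_quot (R := S.presheaf.stalk (f x))
    (B := X.presheaf.stalk x) (𝓘.subschemeι.stalkMap_surjective y) _ hker hreg
    (CMFlatLib.le_depth_congr e (d := 3) h))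

/-- Parafactoriality from the closed fibre. -/
theorem isParafactorial_of_fibre [IsLocallyNoetherian X] [IsLocallyNoetherian S] (f : X ⟶ S) [Flat f] (x : X)
    (hd : (3 : ℕ∞) ≤ LocCoh.depth ↑(CInt.fiberStalk f x) ↑(CInt.fiberStalk f x))
    (hp : ParaF.IsParafactorialLocalRing ↑(CInt.fiberStalk f x)) :
    ParaF.IsParafactorialLocalRing (X.presheaf.stalk x) := by
  letI : Algebra (S.presheaf.stalk (f x)) (X.presheaf.stalk x) := (f.stalkMap x).hom.toAlgebra
  haveI : Module.Flat (S.presheaf.stalk (f x)) (X.presheaf.stalk x) := Flat.stalkMap f x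
  haveI : IsLocalHom (algebraMap (S.presheaf.stalk (f x)) (X.presheaf.stalk x)) :=
    inferInstanceAs (IsLocalHom (f.stalkMap x).hom)
  let F := GorLib.Fib (S.presheaf.stalk (f x)) (X.presheaf.stalk x)
  haveI : IsLocalRing F := GorLib.isLocalRing_quotient (GorLib.map_maximalIdeal_ne_top _ _)
  haveI : IsNoetherianRing F := Ideal.Quotient.isNoetherianRing _
  obtain ⟨e⟩ := CMFlatLib.nonempty_fibre_equiv f x
  haveI : IsNoetherianRing (CInt.fiberStalk f x) := isNoetherianRing_of_ringEquiv F e.symm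
  refine GrDepthPicLib.isParafactorialLocalRing_of_mod (X.presheaf.stalk x)
    ((maximalIdeal (S.presheaf.stalk (f x))).map (algebraMap (S.presheaf.stalk (f x)) (X.presheaf.stalk x)))
    (fun n => GrDepthPicLib.hasGrBasis_map (maximalIdeal (S.presheaf.stalk (f x))) n)
    (CMFlatLib.le_depth_congr e (d := 3) hd) ?_
  letI : Algebra F (CInt.fiberStalk f x) := e.symm.toRingHom.toAlgebra
  haveI : Module.Flat F (CInt.fiberStalk f x) :=
    RingHom.Flat.of_bijective (f := e.symm.toRingHom) e.symm.bijective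
  haveI : IsLocalHom (algebraMap F (CInt.fiberStalk f x)) :=
    Function.Surjective.isLocalHom _ e.symm.surjective
  refine ParaFLib.isParafactorialLocalRing_descent F (CInt.fiberStalk f x) (fun Q hQ hle => ?_) hp
  refine le_antisymm (IsLocalRing.le_maximalIdeal hQ.ne_top) (le_trans ?_ hle)
  intro b hb
  have h2 : e b ∈ maximalIdeal F := fun hu => hb ((e.symm_apply_apply b) ▸ hu.map e.symm)
  exact e.symm_apply_apply b ▸ Ideal.mem_map_of_mem _ h2

end LefFlatLib
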