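import Groth.Agent.LefFlatLib.Main
import Groth.Agent.PerfDualLib.Unit
import Groth.Agent.PerfBaseLib.SplitSheaf

/-!
# The structure sheaf case of the formal limit theorem
-/

set_option autoImplicit false
set_option linter.unusedSectionVars false
set_option linter.style.haveILetI false
set_option maxHeartbeats 1000000
set_option backward.isDefEq.respectTransparency false
set_option backward.isDefEq.respectTransparency.types false
universe u

open CategoryTheory CategoryTheory.Limits AlgebraicGeometry TopologicalSpace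
open CohCmpLib (stk)
open scoped TensorProduct

noncomputable section

namespace LefFlatLib

variable {A : Type u} [CommRing A] {X : Scheme.{u}}

theorem fibDepth_structure (f : X ⟶ Spec (CommRingCat.of A)) (n : ℕ)
    (h : ∀ x : X, IsClosed ({f.asFiber x} : Set ↥(f.fiber (f x))) →
      (n : ℕ∞) < LocCoh.depth (CInt.fiberStalk f x) (CInt.fiberStalk f x)) :
    FibDepth f (Coh.structureModule X) n := by
  have key : ∀ (x : X) (s : Spec (CommRingCat.of A)), f x = s → ∀ z : f.fiber s, f.fiberι s z = x →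
      IsClosed ({z} : Set (f.fiber s)) →
      (n : ℕ∞) < LocCoh.depth ((f.fiber s).presheaf.stalk z) ((f.fiber s).presheaf.stalk z) := by
    intro x s hs z hz hc
    subst hs
    obtain rfl : z = f.asFiber x := (f.fiberι (f x)).isEmbedding.injective (hz.trans (f.fiberι_asFiber x).symm)
    exact h x hc
  intro s z hc
  have hs : f (f.fiberι s z) = s := by
    have h1 : f.fiberι s z ∈ f ⁻¹' {s} := by rw [← f.range_fiberι]; exact ⟨z, rfl⟩
    exact h1
  letI := ((f.fiberι s).stalkMap z).hom.toAlgebra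
  let x := f.fiberι s z
  let e : X.presheaf.stalk x ≃ₗ[X.presheaf.stalk x] stk (Coh.structureModule X) x :=
    LinearEquiv.ofBijective (LinearMap.toSpanSingleton _ _ (SurfExtLib.oneAt x : stk (Coh.structureModule X) x))
      ⟨SurfExtLib.smul_oneAt_injective x, fun v => SurfExtLib.exists_smul_oneAt x v⟩
  exact (key _ s hs z rfl hc).trans_eq (CommAlgDim.depth_congr
    ((TensorProduct.AlgebraTensorModule.rid _ ((f.fiber s).presheaf.stalk z) ((f.fiber s).presheaf.stalk z)).symm.trans
      (e.baseChange _ ((f.fiber s).presheaf.stalk z) _ _)))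

/-- The structure sheaf case. -/
theorem bijective_formal_limit_unit (A : Type u) [CommRing A] [IsNoetherianRing A] {X : Scheme.{u}}
    [X.Over (Spec (CommRingCat.of A))] [IsProper (X ↘ Spec (CommRingCat.of A))]
    [Flat (X ↘ Spec (CommRingCat.of A))] (𝓘 : X.IdealSheafData) {L : X.Modules}
    (hL : ClSub.IsInverseOf L (ClSub.idealMod 𝓘)) (hamp : CohB1.IsAmple L) (n : ℕ)
    (hdepth : FibDepth (X ↘ Spec (CommRingCat.of A)) (Coh.structureModule X) n) (i : ℕ) :
    (i ≤ n → ∀ x : Coh.HH X (Coh.structureModule X) i, (∀ m : ℕ, Sheaf.H.map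
      ((SheafOfModules.toSheaf X.ringCatSheaf).map (ClSub.toSubscheme (𝓘 ^ (m + 1)))) i x = 0) → x = 0) ∧
    (i < n → ∀ y : (∀ m : ℕ, Coh.HH X (ClSub.quotMod (𝓘 ^ (m + 1))) i),
      (∀ m : ℕ, Sheaf.H.map ((SheafOfModules.toSheaf X.ringCatSheaf).map
        (Lef.quotMap (Lef.pow_succ_le 𝓘 m))) i (y (m + 1)) = y m) →
      ∃ x : Coh.HH X (Coh.structureModule X) i, ∀ m : ℕ, Sheaf.H.map
        ((SheafOfModules.toSheaf X.ringCatSheaf).map (ClSub.toSubscheme (𝓘 ^ (m + 1)))) i x = y m) := by
  let τ := Groth.Agent.PerfDualLib.modUnitNat (X := X)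
  let T := SheafOfModules.toSheaf X.ringCatSheaf
  let E : ∀ M : X.Modules, Coh.HH X ((DCoh.tensorBi.obj M).obj (Coh.structureModule X)) i → Coh.HH X M i :=
    fun M => Sheaf.H.map (T.map (τ.hom.app M)) i
  let E' : ∀ M : X.Modules, Coh.HH X M i → Coh.HH X ((DCoh.tensorBi.obj M).obj (Coh.structureModule X)) i :=
    fun M => Sheaf.H.map (T.map (τ.inv.app M)) i
  have EE' : ∀ M v, E M (E' M v) = v := fun M v => by
    show Sheaf.H.map _ i (Sheaf.H.map _ i v) = v
    rw [← Sheaf.H.map_comp_apply, ← Functor.map_comp, Iso.inv_hom_id_app]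
    exact Sheaf.H.map_id_apply v
  have E'E : ∀ M v, E' M (E M v) = v := fun M v => by
    show Sheaf.H.map _ i (Sheaf.H.map _ i v) = v
    rw [← Sheaf.H.map_comp_apply, ← Functor.map_comp, Iso.hom_inv_id_app]
    exact Sheaf.H.map_id_apply v
  have nat : ∀ {M M' : X.Modules} (φ : M ⟶ M') v, E M' (Sheaf.H.map
      (T.map ((DCoh.tensorBi.map φ).app (Coh.structureModule X))) i v) = Sheaf.H.map (T.map φ) i (E M v) := by
    intro M M' φ v
    show Sheaf.H.map _ i (Sheaf.H.map _ i v) = Sheaf.H.map _ i (Sheaf.H.map _ i v)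
    rw [← Sheaf.H.map_comp_apply, ← Sheaf.H.map_comp_apply, ← Functor.map_comp, ← Functor.map_comp]
    exact congrArg (fun ψ => Sheaf.H.map (T.map ψ) i v) (τ.hom.naturality φ)
  have hzero : ∀ M, E M 0 = 0 := fun M => map_zero _
  have hreg : Mono ((DCoh.tensorBi.map (ClSub.idealModι 𝓘)).app (Coh.structureModule X)) := by
    have h1 := τ.hom.naturality (ClSub.idealModι 𝓘)
    haveI : Mono (ClSub.idealModι 𝓘) := (CurvLib.idealSeq_shortExact 𝓘).mono_f
    haveI : Mono ((DCoh.tensorBi.map (ClSub.idealModι 𝓘)).app (Coh.structureModule X) ≫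
        τ.hom.app (Coh.structureModule X)) := by
      show Mono (((DCoh.tensorBi (X := X)).flip.obj (Coh.structureModule X)).map (ClSub.idealModι 𝓘) ≫ _)
      rw [h1]
      infer_instance
    exact mono_of_mono _ (τ.hom.app (Coh.structureModule X))
  have hF : Coh.IsCoh (Coh.structureModule X) :=
    DevissLib.isCoh_structureModule X
  obtain ⟨hi, hj⟩ := bijective_formal_limit A 𝓘 hL hamp (Coh.structureModule X) hF
    (PerfBaseLib.isFlatOver_unit _) hreg n hdepth i
  refine ⟨fun hin x hx => ?_, fun hin y hy => ?_⟩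
  · have := hi hin (E' _ x) fun m => by
      rw [← E'E _ (Sheaf.H.map _ i (E' _ x)), nat, EE', hx m]
      exact map_zero _
    rw [← EE' _ x, this, hzero]
  · obtain ⟨x, hx⟩ := hj hin (fun m => E' _ (y m)) fun m => by
      rw [← E'E _ (Sheaf.H.map _ i (E' _ (y (m + 1)))), nat, EE', hy m]
    exact ⟨E _ x, fun m => by rw [← nat, hx m, EE']⟩

end LefFlatLib
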